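import Groth.Agent.Lib.Helper90.TrivBC.BcCore
import Groth.Agent.Lib.Helper90.DTen.FTD.Main

/-!
# The base change map of trivial duality: statement-level wrappers (helper90)
-/

set_option autoImplicit false
set_option linter.style.haveILetI false
set_option linter.unusedSectionVars false
universe u
open CategoryTheory CategoryTheory.Limits MonoidalCategory
attribute [local instance] HasDerivedCategory.standard

namespace Groth.Agent.Lib.Helper90.TrivBCLib

open _root_.DTen Groth.Agent.Lib.Helper28 Groth.Agent.Lib.Helper90.DTen.BC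
  Groth.Agent.Lib.Helper90.DTen.Rel Groth.Agent.Lib.Helper90.DTen

section Wrap

variable (R A R' A' : Type u) [CommRing R] [CommRing A] [Algebra R A] [CommRing R'] [Algebra R R']
  [CommRing A'] [Algebra A A'] [Algebra R' A'] [Algebra R A'] [IsScalarTower R A A']
  [IsScalarTower R R' A'] [Algebra.IsPushout R R' A A']
  (htor : ∀ p : ℕ, 1 ≤ p → Subsingleton (DRing.Tor R p A R'))
  (h : (algebraMap A A').comp (algebraMap R A) = (algebraMap R' A').comp (algebraMap R R'))
  [DRing.HasLBaseChange (algebraMap R R')] [DRing.HasLBaseChange (algebraMap A A')]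
  (adjρ : DRing.LBaseChange (algebraMap R R') ⊣ DRing.restrictD (algebraMap R R'))
  (adjα : DRing.LBaseChange (algebraMap A A') ⊣ DRing.restrictD (algebraMap A A'))
  {Rφ : Dual.D R ⥤ Dual.D A} (adj : DRing.restrictD (algebraMap R A) ⊣ Rφ)
  {Rφ' : Dual.D R' ⥤ Dual.D A'} (adj' : DRing.restrictD (algebraMap R' A') ⊣ Rφ')
  (K : Dual.D R) (hc : IsIso (TrivBC.cmp adjρ adjα h (Rφ.obj K)))

lemma bcMap_eq_bcMapG :
    TrivBC.bcMap adjρ adjα h adj adj' K hc =
      @bcMapG _ _ _ _ _ _ _ _ _ _ _ _ h _ _ adjρ adjα _ adj _ adj' K hc := rfl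

include htor in
/-- Under tor independence there is a K-projective resolution `q : E ⟶ R'` over `R` such that, for
every K-projective resolution `p : P ⟶ A` over `R` and every K-projective model `N` of `K`, the
base change map of trivial duality at `K` is an isomorphism iff `canon E N P` is a
quasi-isomorphism. -/
theorem exists_resolution_isIso_bcMap_iff :
    ∃ (E : DRing.Cx R) (q : E ⟶ resUnit (algebraMap R R')), E.IsKProjective ∧ QuasiIso q ∧
      ∀ (P : DRing.Cx R) [P.IsKProjective] (p : P ⟶ resUnit (algebraMap R A)) [QuasiIso p]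
        (N : DRing.Cx R) [N.IsKProjective] (_ : DerivedCategory.Q.obj N ≅ K),
        (IsIso (TrivBC.bcMap adjρ adjα h adj adj' K hc) ↔ QuasiIso (canon E N P)) := by
  obtain ⟨E, q, hE, hq, hq'⟩ := exists_kproj_resolution_of_tor R A R' htor
  haveI := hE
  haveI := hq
  refine ⟨E, q, hE, hq, ?_⟩
  intro P _ p _ N _ eN
  rw [bcMap_eq_bcMapG]
  haveI : IsIso (cmpG adjρ adjα h (Rφ.obj K)) := hc
  exact isIso_bcMapG_iff_canon R A R' A' htor h adjρ adjα E q adj adj' K hq' P p N eN

end Wrap

section Eval

variable {A : Type u} [CommRing A] [HasLTen A] [HasLTen₃ A] [IsSymMonoidal A] [HasRHom A]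

/-- For K-projective complexes, `evalTen` on the images is an isomorphism iff `canon` is a
quasi-isomorphism. -/
theorem isIso_evalTen_iff_quasiIso_canon (E N P : DRing.Cx A) [E.IsKProjective]
    [P.IsKProjective] :
    IsIso (evalTen (DerivedCategory.Q.obj E) (DerivedCategory.Q.obj N) (DerivedCategory.Q.obj P)) ↔
      QuasiIso (canon E N P) := by
  have hh := evalTen_cx E N P
  haveI := isIso_rho P N
  haveI := isIso_rho P (E ⊗ N)
  haveI := isIso_eps_left E N
  haveI := isIso_eps_left E (DRing.homCx P N)
  haveI := isIso_tmap (𝟙 (DerivedCategory.Q.obj E)) (rho P N)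
  rw [← DerivedCategory.isIso_Q_map_iff_quasiIso]
  constructor
  · intro hi
    haveI := hi
    have e' : DerivedCategory.Q.map (canon E N P) =
        inv (eps E (DRing.homCx P N)) ≫
          (tmap (𝟙 (DerivedCategory.Q.obj E)) (rho P N) ≫
            evalTen (DerivedCategory.Q.obj E) (DerivedCategory.Q.obj N) (DerivedCategory.Q.obj P) ≫
              (RHomR A (DerivedCategory.Q.obj P)).map (eps E N)) ≫ inv (rho P (E ⊗ N)) := by
      rw [hh]
      simp
    rw [e']
    infer_instance
  · intro hi
    haveI := hi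
    have e' : evalTen (DerivedCategory.Q.obj E) (DerivedCategory.Q.obj N)
          (DerivedCategory.Q.obj P) =
        inv (tmap (𝟙 (DerivedCategory.Q.obj E)) (rho P N)) ≫
          (eps E (DRing.homCx P N) ≫ DerivedCategory.Q.map (canon E N P) ≫ rho P (E ⊗ N)) ≫
            inv ((RHomR A (DerivedCategory.Q.obj P)).map (eps E N)) := by
      rw [← hh]
      simp
    rw [e']
    infer_instance

end Eval

end Groth.Agent.Lib.Helper90.TrivBCLib
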