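import Groth.Agent.Lib.Helper90.DTen.Rel.Act
import Groth.Agent.Lib.Helper6.TorAcyc4
import Groth.Agent.Lib.Helper15.TorSymm
import Groth.Agent.Lib.Helper26.BaseCmpKFlat

/-!
# Tor independence: derived base change of a restricted K-flat complex is computed termwise
(helper90)
-/

set_option autoImplicit false
set_option linter.style.haveILetI false
set_option backward.isDefEq.respectTransparency false
universe u
open CategoryTheory CategoryTheory.Limits MonoidalCategory
attribute [local instance] HasDerivedCategory.standard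

namespace Groth.Agent.Lib.Helper90.TrivBCLib

open _root_.DTen Groth.Agent.Lib.Helper28 Groth.Agent.Lib.Helper90.DTen.BC
  Groth.Agent.Lib.Helper90.DTen.Rel

section General

variable {R R' : Type u} [CommRing R] [CommRing R'] (ρ : R →+* R')

/-- (c3) If `q ▷ X` is a quasi-isomorphism for a K-flat resolution `q : E ⟶ res 𝟙`, then the
derived base change of `X` is computed termwise. -/
theorem isIso_baseCmp_of_quasiIso_whiskerRight [HasLBase ρ] (E : DRing.Cx R)
    (hE : TensCx.KFlat E) (q : E ⟶ resUnit ρ) [QuasiIso q] (X : DRing.Cx R)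
    (hX : QuasiIso (q ▷ X)) : IsIso ((baseCmp ρ).app X) := by
  obtain ⟨G, s, hG, hs⟩ := Groth.Agent.Lib.Helper32.LBC.hasKProjRes R X
  haveI := hG
  haveI := hs
  haveI := hX
  haveI : QuasiIso (uMap ρ E q G) := quasiIso_uMap ρ E q G
  haveI : QuasiIso (uMap ρ E q X) := by
    rw [uMap_eq]
    infer_instance
  haveI : QuasiIso (E ◁ s) := TensCx.quasiIso_whiskerLeft E
    (fun C hC => KProjFlat.acyclic_tensor_left_of_kflat E hE C hC) s
  have hnat := uMap_naturality ρ E q s
  haveI : QuasiIso (uMap ρ E q G ≫ (resCx ρ).map ((extCx ρ).map s)) := by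
    rw [← hnat]
    infer_instance
  haveI h1 : QuasiIso ((resCx ρ).map ((extCx ρ).map s)) :=
    quasiIso_of_comp_left (uMap ρ E q G) _
  haveI hq : QuasiIso ((extCx ρ).map s) :=
    (HomologicalComplex.quasiIso_map_iff_of_preservesHomology
      ((extCx ρ).map s) (ModuleCat.restrictScalars.{u} ρ)).1 h1
  have nat := (baseCmp ρ).naturality s
  haveI : IsIso ((baseCmp ρ).app G) := Groth.Agent.Lib.Helper26.DTenSplit.isIso_baseCmp ρ G
  haveI h1 : IsIso (DerivedCategory.Q.map s) := by
    rw [DerivedCategory.isIso_Q_map_iff_quasiIso]; infer_instance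
  haveI h2 : IsIso (DerivedCategory.Q.map ((extCx ρ).map s)) := by
    rw [DerivedCategory.isIso_Q_map_iff_quasiIso]; infer_instance
  haveI h3 : IsIso ((DerivedCategory.Q ⋙ LBase ρ).map s) := by
    dsimp only [Functor.comp_map]; infer_instance
  haveI h4 : IsIso ((extCx ρ ⋙ DerivedCategory.Q).map s) := by
    dsimp only [Functor.comp_map]; infer_instance
  have : (baseCmp ρ).app X =
      inv ((DerivedCategory.Q ⋙ LBase ρ).map s) ≫ (baseCmp ρ).app G ≫
        (extCx ρ ⋙ DerivedCategory.Q).map s := by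
    rw [← nat, IsIso.inv_hom_id_assoc]
  rw [this]
  infer_instance

end General

section Square

variable {R A : Type u} [CommRing R] [CommRing A] (φ : R →+* A)

/-- (c2) If `ext_φ g` is a quasi-isomorphism and `W` is K-flat over `A`, then `g ▷ res_φ W` is a
quasi-isomorphism. -/
theorem quasiIso_whiskerRight_res {E E' : DRing.Cx R} (g : E ⟶ E')
    (hg : QuasiIso ((extCx φ).map g)) (W : DRing.Cx A) (hW : TensCx.KFlat W) :
    QuasiIso (g ▷ (resCx φ).obj W) := by
  haveI := hg
  haveI : QuasiIso ((extCx φ).map g ▷ W) :=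
    TensCx.quasiIso_whiskerRight_of_kflat ((extCx φ).map g) W hW
  haveI : QuasiIso ((resCx φ).map ((extCx φ).map g ▷ W)) :=
    (HomologicalComplex.quasiIso_map_iff_of_preservesHomology
      ((extCx φ).map g ▷ W) (ModuleCat.restrictScalars.{u} φ)).2 inferInstance
  have hnat := pf_naturality_left φ g W
  haveI : QuasiIso ((g ▷ (resCx φ).obj W) ≫ pf φ E' W) := by
    rw [hnat]
    infer_instance
  exact quasiIso_of_comp_right _ (pf φ E' W)

end Square

section TorInd

open Groth.Agent.Lib.Helper6.TorAcyc Groth.Agent.Lib.Helper35.TA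

variable (R A R' : Type u) [CommRing R] [CommRing A] [CommRing R'] [Algebra R A] [Algebra R R']

/-- Tor independence in the form used by `Acyc`. -/
lemma acyc_of_tor (htor : ∀ p : ℕ, 1 ≤ p → Subsingleton (DRing.Tor R p A R')) :
    Acyc (NN R A) (NN R R') := by
  intro q
  have h0 : IsZero (TorZ (q + 1) (ModuleCat.of R A) (ModuleCat.of R R')) := by
    haveI := htor (q + 1) (by omega)
    exact ModuleCat.isZero_of_subsingleton _
  have e1 : TorZ (q + 1) (NN R R') (NN R A) ≅ TorZ (q + 1) (ModuleCat.of R R') (NN R A) :=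
    ((Tor (ModuleCat.{u} R) (q + 1)).mapIso (resSelfIso R R').symm).app (NN R A)
  have e2 : TorZ (q + 1) (ModuleCat.of R R') (NN R A) ≅
      TorZ (q + 1) (ModuleCat.of R R') (ModuleCat.of R A) :=
    ((Tor (ModuleCat.{u} R) (q + 1)).obj (ModuleCat.of R R')).mapIso (resSelfIso R A).symm
  have e3 : TorZ (q + 1) (ModuleCat.of R R') (ModuleCat.of R A) ≅
      TorZ (q + 1) (ModuleCat.of R A) (ModuleCat.of R R') :=
    ((Groth.Agent.Lib.Helper15.TorSymm.torSymm (R := R) (q + 1)).app (ModuleCat.of R R')).app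
      (ModuleCat.of R A)
  exact h0.of_iso (e1 ≪≫ e2 ≪≫ e3)

/-- (c1) Under tor independence there is a K-projective resolution `q : E ⟶ res 𝟙` of `R'` over
`R` which stays a quasi-isomorphism after extension of scalars to `A`. -/
theorem exists_kproj_resolution_of_tor
    (htor : ∀ p : ℕ, 1 ≤ p → Subsingleton (DRing.Tor R p A R')) :
    ∃ (E : DRing.Cx R) (q : E ⟶ resUnit (algebraMap R R')), E.IsKProjective ∧ QuasiIso q ∧
      QuasiIso ((extCx (algebraMap R A)).map q) := by
  have hU : DRing.VanishesAbove (resUnit (algebraMap R R')) 0 := fun i hi =>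
    isZero_resUnit_X (algebraMap R R') i (by omega)
  haveI hs : (resUnit (algebraMap R R')).IsStrictlyLE 0 := by
    rw [CochainComplex.isStrictlyLE_iff]
    exact fun i hi => hU i hi
  haveI hLE : (DerivedCategory.Q.obj (resUnit (algebraMap R R'))).IsLE 0 := inferInstance
  obtain ⟨Pr, π, hPb, hPproj, hπ⟩ := exists_projective_resolution_cx (resUnit (algebraMap R R')) 0
  haveI := hπ
  haveI hKP : Pr.IsKProjective :=
    Groth.Agent.Lib.Helper32.LBC.isKProjective_of_vanishesAbove Pr 0 hPb hPproj
  refine ⟨Pr, π, hKP, hπ, ?_⟩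
  let C := CochainComplex.mappingCone π
  have hCb : ∀ i : ℤ, 0 < i → IsZero (C.X i) := by
    intro i hi
    rw [CochainComplex.mappingCone.isZero_X_iff]
    exact ⟨hPb (i + 1) (by omega), hU i hi⟩
  have hCex : ∀ i : ℤ, C.ExactAt i := fun i => exactAt_mappingCone_of_quasiIso π i
  have hA0 := acyc_of_tor R A R' htor
  have hUA : ∀ i : ℤ, Acyc (NN R A) ((resUnit (algebraMap R R')).X i) := by
    intro i
    by_cases hi : i = 0
    · subst hi
      exact acyc_of_iso (NN R A)
        ((ModuleCat.restrictScalars.{u} (algebraMap R R')).mapIso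
          (TensCx.unitIso (R := R')).symm) hA0
    · exact acyc_of_isZero (NN R A) (isZero_resUnit_X (algebraMap R R') i hi)
  have hCA : ∀ i : ℤ, Acyc (NN R A) (C.X i) := by
    intro i
    haveI := hPproj (i + 1)
    have h1 := acyc_prod (NN R A) _ _ (acyc_of_flat (NN R A) (Pr.X (i + 1))) (hUA i)
    exact acyc_of_iso (NN R A)
      (Groth.Agent.Lib.Helper35.KL.mappingConeXLinearEquiv π i).toModuleIso.symm h1
  have h1 := exactAt_extendScalars_of_acyc (R' := A) C 0 hCb hCA hCex
  exact (Groth.Agent.Lib.Helper32.ConeAcyclic.quasiIso_map_iff_acyclic_map_mappingCone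
    (ModuleCat.extendScalars.{u, u, u} (algebraMap R A)) π).2 h1

/-- (c1) Under tor independence there is a K-flat resolution `q : E ⟶ res 𝟙` of `R'` over `R`
which stays a quasi-isomorphism after extension of scalars to `A`. -/
theorem exists_resolution_of_tor (htor : ∀ p : ℕ, 1 ≤ p → Subsingleton (DRing.Tor R p A R')) :
    ∃ (E : DRing.Cx R) (q : E ⟶ resUnit (algebraMap R R')), TensCx.KFlat E ∧ QuasiIso q ∧
      QuasiIso ((extCx (algebraMap R A)).map q) := by
  obtain ⟨E, q, hE, hq, hq'⟩ := exists_kproj_resolution_of_tor R A R' htor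
  haveI := hE
  exact ⟨E, q, KProjFlat.kflat_of_isKProjective E, hq, hq'⟩

end TorInd

end Groth.Agent.Lib.Helper90.TrivBCLib
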