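import Groth.Agent.Lib.Helper90.TrivBC.TauAlg
import Groth.Agent.Lib.Helper90.TrivBC.TorInd

/-!
# Tor independent base change: the comparison map `TrivBC.cmp` is an isomorphism (helper90)
-/

set_option autoImplicit false
set_option linter.style.haveILetI false
universe u
open CategoryTheory CategoryTheory.Limits
attribute [local instance] HasDerivedCategory.standard

namespace Groth.Agent.Lib.Helper90.TrivBCLib

open _root_.DTen Groth.Agent.Lib.Helper6.PushoutBC Groth.Agent.Lib.Helper28

variable (R A R' A' : Type u) [CommRing R] [CommRing A] [Algebra R A] [CommRing R'] [Algebra R R']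
  [CommRing A'] [Algebra A A'] [Algebra R' A'] [Algebra R A'] [IsScalarTower R A A']
  [IsScalarTower R R' A'] [Algebra.IsPushout R R' A A']
  (htor : ∀ p : ℕ, 1 ≤ p → Subsingleton (DRing.Tor R p A R'))
  (h : (algebraMap A A').comp (algebraMap R A) = (algebraMap R' A').comp (algebraMap R R'))

include htor in
/-- For a K-projective complex `P` of `A`-modules the restriction of `P` to `R` computes its derived
base change to `R'` termwise. -/
theorem isIso_baseCmp_res [HasLBase (algebraMap R R')] (P : DRing.Cx A) [P.IsKProjective] :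
    IsIso ((baseCmp (algebraMap R R')).app ((resCx (algebraMap R A)).obj P)) := by
  obtain ⟨E, q, hE, hq, hq'⟩ := exists_resolution_of_tor R A R' htor
  haveI := hq
  have hX : QuasiIso (MonoidalCategory.whiskerRight q ((resCx (algebraMap R A)).obj P)) :=
    quasiIso_whiskerRight_res (algebraMap R A) q hq' P (KProjFlat.kflat_of_isKProjective P)
  exact isIso_baseCmp_of_quasiIso_whiskerRight (algebraMap R R') E hE q _ hX

include htor in
theorem isIso_cmpG_baseAdj_Q [HasLBase (algebraMap R R')] [HasLBase (algebraMap A A')]
    (P : DRing.Cx A) [P.IsKProjective] :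
    IsIso (cmpG (baseAdj (algebraMap R R')) (baseAdj (algebraMap A A')) h
      (DerivedCategory.Q.obj P)) := by
  haveI i1 := isIso_baseCmp_res R A R' htor P
  haveI i2 : IsIso ((baseCmp (algebraMap A A')).app P) :=
    Groth.Agent.Lib.Helper26.DTenSplit.isIso_baseCmp (algebraMap A A') P
  have hid := cmpG_baseCmp h P (bcCxIso R R' A' P).hom (unit_bcCxIso R A R' A' h P)
  haveI : IsIso (cmpG (baseAdj (algebraMap R R')) (baseAdj (algebraMap A A')) h
      (DerivedCategory.Q.obj P) ≫
        (DRing.restrictD (algebraMap R' A')).map ((baseCmp (algebraMap A A')).app P) ≫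
          (resFactors (algebraMap R' A')).hom.app ((extCx (algebraMap A A')).obj P)) := by
    rw [hid]
    infer_instance
  exact IsIso.of_isIso_comp_right _
    ((DRing.restrictD (algebraMap R' A')).map ((baseCmp (algebraMap A A')).app P) ≫
      (resFactors (algebraMap R' A')).hom.app ((extCx (algebraMap A A')).obj P))

include htor in
theorem isIso_cmpG_baseAdj [HasLBase (algebraMap R R')] [HasLBase (algebraMap A A')]
    (K : Dual.D A) :
    IsIso (cmpG (baseAdj (algebraMap R R')) (baseAdj (algebraMap A A')) h K) := by
  obtain ⟨P, hP, ⟨e⟩⟩ := Groth.Agent.Lib.Helper32.LBC.exists_kproj_iso K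
  haveI := hP
  haveI := isIso_cmpG_baseAdj_Q R A R' A' htor h P
  have nat := cmpG_naturality (baseAdj (algebraMap R R')) (baseAdj (algebraMap A A')) h e.hom
  haveI : IsIso ((LBase (algebraMap R R')).map ((DRing.restrictD (algebraMap R A)).map e.hom) ≫
      cmpG (baseAdj (algebraMap R R')) (baseAdj (algebraMap A A')) h K) := by
    rw [nat]
    infer_instance
  exact IsIso.of_isIso_comp_left
    ((LBase (algebraMap R R')).map ((DRing.restrictD (algebraMap R A)).map e.hom)) _

include htor in
/-- Tor independent base change: `TrivBC.cmp` is an isomorphism. -/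
theorem isIso_cmp [DRing.HasLBaseChange (algebraMap R R')] [DRing.HasLBaseChange (algebraMap A A')]
    (adjρ : DRing.LBaseChange (algebraMap R R') ⊣ DRing.restrictD (algebraMap R R'))
    (adjα : DRing.LBaseChange (algebraMap A A') ⊣ DRing.restrictD (algebraMap A A'))
    (K : Dual.D A) : IsIso (TrivBC.cmp adjρ adjα h K) := by
  haveI : HasLBase (algebraMap R R') := ⟨adjρ.isRightAdjoint⟩
  haveI : HasLBase (algebraMap A A') := ⟨adjα.isRightAdjoint⟩
  rw [cmp_eq_cmpG]
  haveI := isIso_cmpG_baseAdj R A R' A' htor h K
  exact isIso_cmpG_of_isIso adjρ (baseAdj (algebraMap R R')) adjα (baseAdj (algebraMap A A')) h K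

end Groth.Agent.Lib.Helper90.TrivBCLib
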