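import Groth.Agent.Lib.Helper90.TrivBC.Main

/-!
# The comparison `L (Q X) ⟶ Q (ext X)` for an arbitrary left adjoint `L` of restriction (helper90)
-/

set_option autoImplicit false
set_option linter.style.haveILetI false
universe u
open CategoryTheory CategoryTheory.Limits
attribute [local instance] HasDerivedCategory.standard

namespace Groth.Agent.Lib.Helper90.TrivBCLib

open _root_.DTen

section One

variable {R R' : Type u} [CommRing R] [CommRing R'] {ρ : R →+* R'}
  {L : Dual.D R ⥤ Dual.D R'} (adjρ : L ⊣ DRing.restrictD ρ)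

/-- `Q X ⟶ (Q (ext X))|_R`. -/
noncomputable def gam (ρ : R →+* R') (X : DRing.Cx R) :
    DerivedCategory.Q.obj X ⟶ (DRing.restrictD ρ).obj (DerivedCategory.Q.obj ((extCx ρ).obj X)) :=
  DerivedCategory.Q.map ((unitCx ρ).app X) ≫ (resFactors ρ).inv.app ((extCx ρ).obj X)

lemma gam_naturality {X Y : DRing.Cx R} (f : X ⟶ Y) :
    DerivedCategory.Q.map f ≫ gam ρ Y =
      gam ρ X ≫ (DRing.restrictD ρ).map (DerivedCategory.Q.map ((extCx ρ).map f)) := by
  have h1 := (unitCx ρ).naturality f
  have h2 := (resFactors ρ).inv.naturality ((extCx ρ).map f)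
  dsimp only [Functor.id_obj, Functor.id_map, Functor.comp_obj, Functor.comp_map] at h1 h2
  dsimp only [gam]
  rw [Category.assoc, ← h2, ← Category.assoc, ← Category.assoc, ← Functor.map_comp,
    ← Functor.map_comp, h1]

/-- The comparison `L (Q X) ⟶ Q (ext X)`. -/
noncomputable def baseCmpG (X : DRing.Cx R) :
    L.obj (DerivedCategory.Q.obj X) ⟶ DerivedCategory.Q.obj ((extCx ρ).obj X) :=
  (adjρ.homEquiv _ _).symm (gam ρ X)

lemma baseCmpG_fac (X : DRing.Cx R) :
    adjρ.unit.app (DerivedCategory.Q.obj X) ≫ (DRing.restrictD ρ).map (baseCmpG adjρ X) =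
      gam ρ X := by
  have h1 := (adjρ.homEquiv _ _).apply_symm_apply (gam ρ X)
  rw [Adjunction.homEquiv_unit] at h1
  exact h1

lemma baseCmpG_naturality {X Y : DRing.Cx R} (f : X ⟶ Y) :
    L.map (DerivedCategory.Q.map f) ≫ baseCmpG adjρ Y =
      baseCmpG adjρ X ≫ DerivedCategory.Q.map ((extCx ρ).map f) := by
  apply hom_ext_of_unit adjρ
  have h0 := adjρ.unit.naturality (DerivedCategory.Q.map f)
  dsimp only [Functor.comp_obj, Functor.comp_map, Functor.id_obj, Functor.id_map] at h0
  rw [Functor.map_comp, Functor.map_comp, ← Category.assoc, ← h0, Category.assoc, baseCmpG_fac,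
    ← Category.assoc, baseCmpG_fac, gam_naturality]

lemma baseCmpG_eq [HasLBase ρ] (X : DRing.Cx R) :
    baseCmpG adjρ X = (adjρ.leftAdjointUniq (baseAdj ρ)).hom.app (DerivedCategory.Q.obj X) ≫
      (baseCmp ρ).app X := by
  apply hom_ext_of_unit adjρ
  have h0 := Adjunction.unit_leftAdjointUniq_hom_app adjρ (baseAdj ρ) (DerivedCategory.Q.obj X)
  have h1 := baseCmp_fac ρ X
  rw [baseCmpG_fac, Functor.map_comp, ← Category.assoc, h0, h1]
  rfl

lemma isIso_baseCmpG_of_isIso [HasLBase ρ] (X : DRing.Cx R) [IsIso ((baseCmp ρ).app X)] :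
    IsIso (baseCmpG adjρ X) := by
  rw [baseCmpG_eq]
  infer_instance

lemma isIso_baseCmpG_of_isKProjective (X : DRing.Cx R) [X.IsKProjective] :
    IsIso (baseCmpG adjρ X) := by
  haveI : HasLBase ρ := ⟨adjρ.isRightAdjoint⟩
  haveI : IsIso ((baseCmp ρ).app X) := Groth.Agent.Lib.Helper26.DTenSplit.isIso_baseCmp ρ X
  exact isIso_baseCmpG_of_isIso adjρ X

end One

section Square

variable {R A R' A' : Type u} [CommRing R] [CommRing A] [CommRing R'] [CommRing A']
  {φ : R →+* A} {ρ : R →+* R'} {α : A →+* A'} {φ' : R' →+* A'} (h : α.comp φ = φ'.comp ρ)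
  {L : Dual.D R ⥤ Dual.D R'} {M : Dual.D A ⥤ Dual.D A'}
  (adjρ : L ⊣ DRing.restrictD ρ) (adjα : M ⊣ DRing.restrictD α)
  (P : DRing.Cx A)
  (τ : (extCx ρ).obj ((resCx φ).obj P) ⟶ (resCx φ').obj ((extCx α).obj P))

/-- The adjunct of the left-hand side of `cmpG_baseCmpG`. -/
lemma adjunct_lhsG :
    adjρ.unit.app ((DRing.restrictD φ).obj (DerivedCategory.Q.obj P)) ≫
      (DRing.restrictD ρ).map (cmpG adjρ adjα h (DerivedCategory.Q.obj P) ≫
        (DRing.restrictD φ').map (baseCmpG adjα P) ≫
          (resFactors φ').hom.app ((extCx α).obj P)) =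
    (resFactors φ).hom.app P ≫
      DerivedCategory.Q.map ((resCx φ).map ((unitCx α).app P) ≫ cCx h ((extCx α).obj P)) ≫
        (resFactors ρ).inv.app ((resCx φ').obj ((extCx α).obj P)) := by
  have h1 := (TrivBC.resComm h).hom.naturality (baseCmpG adjα P)
  have h2 := baseCmpG_fac adjα P
  have h3 := (resFactors φ).hom.naturality ((unitCx α).app P)
  dsimp only [Functor.comp_obj, Functor.comp_map, Functor.id_obj] at h1 h3
  rw [Functor.map_comp, Functor.map_comp, ← Category.assoc, unit_cmpG, Category.assoc,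
    ← Category.assoc ((TrivBC.resComm h).hom.app _), ← h1, Category.assoc,
    ← Functor.map_comp_assoc, h2, resComm_hom_app_Q]
  dsimp only [gam]
  have e1 : (DRing.restrictD φ).map ((resFactors α).inv.app ((extCx α).obj P)) ≫
      (DRing.restrictD φ).map ((resFactors α).hom.app ((extCx α).obj P)) = 𝟙 _ := by
    rw [← Functor.map_comp, Iso.inv_hom_id_app]
    exact (DRing.restrictD φ).map_id _
  have e2 : (DRing.restrictD ρ).map ((resFactors φ').inv.app ((extCx α).obj P)) ≫
      (DRing.restrictD ρ).map ((resFactors φ').hom.app ((extCx α).obj P)) = 𝟙 _ := by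
    rw [← Functor.map_comp, Iso.inv_hom_id_app]
    exact (DRing.restrictD ρ).map_id _
  simp only [Functor.map_comp, Category.assoc]
  rw [reassoc_of% e1, e2]
  erw [Category.comp_id]
  rw [reassoc_of% h3]

/-- The adjunct of the right-hand side of `cmpG_baseCmpG`. -/
lemma adjunct_rhsG :
    adjρ.unit.app ((DRing.restrictD φ).obj (DerivedCategory.Q.obj P)) ≫
      (DRing.restrictD ρ).map (L.map ((resFactors φ).hom.app P) ≫
        baseCmpG adjρ ((resCx φ).obj P) ≫ DerivedCategory.Q.map τ) =
    (resFactors φ).hom.app P ≫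
      DerivedCategory.Q.map ((unitCx ρ).app ((resCx φ).obj P) ≫ (resCx ρ).map τ) ≫
        (resFactors ρ).inv.app ((resCx φ').obj ((extCx α).obj P)) := by
  have h0 := adjρ.unit.naturality ((resFactors φ).hom.app P)
  have h2 := baseCmpG_fac adjρ ((resCx φ).obj P)
  have h3 := (resFactors ρ).inv.naturality τ
  dsimp only [Functor.comp_obj, Functor.comp_map, Functor.id_obj, Functor.id_map] at h0 h3
  rw [Functor.map_comp, Functor.map_comp, ← Category.assoc, ← h0, Category.assoc,
    ← Category.assoc (adjρ.unit.app _), h2]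
  dsimp only [gam]
  rw [Category.assoc, ← h3, Functor.map_comp, Category.assoc]

/-- `cmpG` at the image of a complex `P`, through the termwise base changes, for arbitrary left
adjoints. -/
theorem cmpG_baseCmpG
    (hτ : (unitCx ρ).app ((resCx φ).obj P) ≫ (resCx ρ).map τ =
      (resCx φ).map ((unitCx α).app P) ≫ cCx h ((extCx α).obj P)) :
    cmpG adjρ adjα h (DerivedCategory.Q.obj P) ≫
        (DRing.restrictD φ').map (baseCmpG adjα P) ≫
          (resFactors φ').hom.app ((extCx α).obj P) =
      L.map ((resFactors φ).hom.app P) ≫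
        baseCmpG adjρ ((resCx φ).obj P) ≫ DerivedCategory.Q.map τ := by
  apply hom_ext_of_unit adjρ
  rw [adjunct_lhsG, adjunct_rhsG, hτ]

end Square

end Groth.Agent.Lib.Helper90.TrivBCLib
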