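import Groth.Agent.Lib.Helper90.TrivBC.BcModel

/-!
# The base change map of trivial duality is an isomorphism iff `canon E N P` is a
quasi-isomorphism: the core theorem (helper90)
-/

set_option autoImplicit false
set_option linter.style.haveILetI false
set_option linter.unusedSectionVars false
set_option backward.isDefEq.respectTransparency false
universe u
open CategoryTheory CategoryTheory.Limits MonoidalCategory
attribute [local instance] HasDerivedCategory.standard

namespace Groth.Agent.Lib.Helper90.TrivBCLib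

open _root_.DTen Groth.Agent.Lib.Helper28 Groth.Agent.Lib.Helper26.AdjKProj
  Groth.Agent.Lib.Helper90.DTen.BC Groth.Agent.Lib.Helper90.DTen.Rel
  Groth.Agent.Lib.Helper90.DTen Groth.Agent.Lib.Helper26.TensorHomCx
  Groth.Agent.Lib.Helper26.KProjQ Groth.Agent.Lib.Helper6.PushoutBC

variable (R A R' A' : Type u) [CommRing R] [CommRing A] [Algebra R A] [CommRing R'] [Algebra R R']
  [CommRing A'] [Algebra A A'] [Algebra R' A'] [Algebra R A'] [IsScalarTower R A A']
  [IsScalarTower R R' A'] [Algebra.IsPushout R R' A A']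
  (htor : ∀ p : ℕ, 1 ≤ p → Subsingleton (DRing.Tor R p A R'))
  (h : (algebraMap A A').comp (algebraMap R A) = (algebraMap R' A').comp (algebraMap R R'))
  {L : Dual.D R ⥤ Dual.D R'} {M : Dual.D A ⥤ Dual.D A'}
  (adjρ : L ⊣ DRing.restrictD (algebraMap R R')) (adjα : M ⊣ DRing.restrictD (algebraMap A A'))

include htor in
lemma isIso_cmpG_of_tor (S : Dual.D A) : IsIso (cmpG adjρ adjα h S) := by
  haveI : HasLBase (algebraMap R R') := ⟨adjρ.isRightAdjoint⟩
  haveI : HasLBase (algebraMap A A') := ⟨adjα.isRightAdjoint⟩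
  haveI := isIso_cmpG_baseAdj R A R' A' htor h S
  exact isIso_cmpG_of_isIso adjρ (baseAdj (algebraMap R R')) adjα (baseAdj (algebraMap A A')) h S

include htor in
lemma isIso_baseCmpG_res (W : DRing.Cx A) [W.IsKProjective] :
    IsIso (baseCmpG adjρ ((resCx (algebraMap R A)).obj W)) := by
  haveI : HasLBase (algebraMap R R') := ⟨adjρ.isRightAdjoint⟩
  haveI := isIso_baseCmp_res R A R' htor W
  exact isIso_baseCmpG_of_isIso adjρ _

variable (E : DRing.Cx R) (q : E ⟶ resUnit (algebraMap R R'))

lemma quasiIso_uMap_res (hq' : QuasiIso ((extCx (algebraMap R A)).map q))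
    (W : DRing.Cx A) [W.IsKProjective] :
    QuasiIso (uMap (algebraMap R R') E q ((resCx (algebraMap R A)).obj W)) := by
  haveI := quasiIso_whiskerRight_res (algebraMap R A) q hq' W (KProjFlat.kflat_of_isKProjective W)
  rw [uMap_eq]
  infer_instance

lemma quasiIso_uMap_qTilde (hq' : QuasiIso ((extCx (algebraMap R A)).map q))
    (W : DRing.Cx A) [W.IsKProjective] :
    QuasiIso (uMap (algebraMap A A') ((extCx (algebraMap R A)).obj E)
      (qTilde R A R' A' h E q) W) := by
  haveI := quasiIso_uMap_res R A R' E q hq' W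
  have hs := star_one R A R' A' h E q W
  haveI : QuasiIso (pf (algebraMap R A) E W ≫
      (resCx (algebraMap R A)).map
        (uMap (algebraMap A A') ((extCx (algebraMap R A)).obj E) (qTilde R A R' A' h E q) W) ≫
        cCx h ((extCx (algebraMap A A')).obj W)) := by
    rw [hs]
    infer_instance
  haveI h1 : QuasiIso ((resCx (algebraMap R A)).map
        (uMap (algebraMap A A') ((extCx (algebraMap R A)).obj E) (qTilde R A R' A' h E q) W) ≫
        cCx h ((extCx (algebraMap A A')).obj W)) :=
    quasiIso_of_comp_left (pf (algebraMap R A) E W) _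
  haveI h2 : QuasiIso ((resCx (algebraMap R A)).map
        (uMap (algebraMap A A') ((extCx (algebraMap R A)).obj E) (qTilde R A R' A' h E q) W)) :=
    quasiIso_of_comp_right _ (cCx h ((extCx (algebraMap A A')).obj W))
  exact (HomologicalComplex.quasiIso_map_iff_of_preservesHomology _
    (ModuleCat.restrictScalars.{u} (algebraMap R A))).1 h2


section Core

variable {Rφ : Dual.D R ⥤ Dual.D A} (adj : DRing.restrictD (algebraMap R A) ⊣ Rφ)
  {Rφ' : Dual.D R' ⥤ Dual.D A'} (adj' : DRing.restrictD (algebraMap R' A') ⊣ Rφ')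
  (K : Dual.D R)

include htor in
/-- **Core theorem.** Under tor independence, the base change map of trivial duality at `K` is an
isomorphism iff `canon E N P` is a quasi-isomorphism, for `E → R'`, `P → A` K-projective
resolutions over `R` and `N` a K-projective model of `K`. -/
theorem isIso_bcMapG_iff_canon [E.IsKProjective] [QuasiIso q]
    (hq' : QuasiIso ((extCx (algebraMap R A)).map q))
    (P : DRing.Cx R) [P.IsKProjective] (p : P ⟶ resUnit (algebraMap R A)) [QuasiIso p]
    (N : DRing.Cx R) [N.IsKProjective] (eN : DerivedCategory.Q.obj N ≅ K)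
    [IsIso (cmpG adjρ adjα h (Rφ.obj K))] :
    IsIso (bcMapG h adjρ adjα adj adj' K) ↔ QuasiIso (canon E N P) := by
  have hcmp : ∀ S : Dual.D A, IsIso (cmpG adjρ adjα h S) :=
    fun S => isIso_cmpG_of_tor R A R' A' htor h adjρ adjα S
  obtain ⟨W, hW, ⟨eW⟩⟩ := Groth.Agent.Lib.Helper32.LBC.exists_kproj_iso (Rφ.obj K)
  haveI := hW
  obtain ⟨V, k, hV, hk⟩ := Groth.Agent.Lib.Helper32.LBC.hasKProjRes R
    ((resCx (algebraMap R A)).obj W)
  haveI := hV
  haveI := hk
  haveI : (V ⊗ P).IsKProjective := isKProjective_tensor V P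
  haveI : (E ⊗ V).IsKProjective := isKProjective_tensor E V
  obtain ⟨ev₁, hev₁⟩ := Q_map_surjective (V ⊗ P) N
    (DerivedCategory.Q.map ((k ▷ P) ≫ act (algebraMap R A) P p W) ≫
      trW (algebraMap R A) N (adj.counit.app K ≫ eN.inv) W eW)
  -- instances
  haveI := hcmp (DerivedCategory.Q.obj W)
  haveI : IsIso (baseCmpG adjα W) := isIso_baseCmpG_of_isKProjective adjα W
  haveI : IsIso (baseCmpG adjρ ((resCx (algebraMap R A)).obj W)) :=
    isIso_baseCmpG_res R A R' htor adjρ W
  haveI : IsIso (baseCmpG adjρ N) := isIso_baseCmpG_of_isKProjective adjρ N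
  haveI : IsIso (baseCmpG adjρ (V ⊗ P)) := isIso_baseCmpG_of_isKProjective adjρ (V ⊗ P)
  haveI : IsIso (kap adjρ E q N) := by
    haveI := quasiIso_uMap (algebraMap R R') E q N
    dsimp only [kap, nuG]
    infer_instance
  haveI : IsIso (kap adjα ((extCx (algebraMap R A)).obj E) (qTilde R A R' A' h E q) W) := by
    haveI := quasiIso_uMap_qTilde R A R' A' h E q hq' W
    dsimp only [kap, nuG]
    infer_instance
  -- the first pair: universal property of `Rφ`
  have hP1 := quasiIso_curry_iff (algebraMap R A) P p N (adj.counit.app K ≫ eN.inv) W eW V k ev₁ hev₁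
  have hq1 : QuasiIso (curryHom ev₁) := by
    rw [hP1]
    intro H _
    have e : testMap (algebraMap R A) N (adj.counit.app K ≫ eN.inv) H =
        (fun z => z ≫ eN.inv) ∘ (adj.homEquiv _ _).symm := by
      funext x
      dsimp only [testMap, Function.comp]
      rw [Adjunction.homEquiv_counit, Category.assoc]
    rw [e]
    exact (bij_postcomp _ eN.inv).comp (adj.homEquiv _ _).symm.bijective
  -- the second pair
  let eW₂ : DerivedCategory.Q.obj ((extCx (algebraMap R A)).obj E ⊗ W) ≅
      (DRing.restrictD (algebraMap A A')).obj (M.obj (Rφ.obj K)) :=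
    asIso (kap adjα ((extCx (algebraMap R A)).obj E) (qTilde R A R' A' h E q) W) ≪≫
      (DRing.restrictD (algebraMap A A')).mapIso (M.mapIso eW)
  have hev₂ := stepC R A R' A' h adjρ adjα adj K E q P p N eN W eW V k ev₁ eW₂ rfl hev₁
  haveI : QuasiIso (E ◁ k) := TensCx.quasiIso_whiskerLeft E
    (fun C hC => KProjFlat.acyclic_tensor_left_of_kflat E (KProjFlat.kflat_of_isKProjective E) C hC) k
  haveI : QuasiIso ((E ◁ k) ≫ pf (algebraMap R A) E W) := inferInstance
  have hP2 := quasiIso_curry_iff (algebraMap R A) P p (E ⊗ N)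
    (wMap h adjρ adjα adj K ≫ (DRing.restrictD (algebraMap R R')).map (L.map eN.inv) ≫
      inv (kap adjρ E q N)) ((extCx (algebraMap R A)).obj E ⊗ W) eW₂ (E ⊗ V)
    ((E ◁ k) ≫ pf (algebraMap R A) E W) ((α_ E V P).hom ≫ E ◁ ev₁) hev₂
  -- `canon`
  haveI : QuasiIso (E ◁ curryHom ev₁) := TensCx.quasiIso_whiskerLeft E
    (fun C hC => KProjFlat.acyclic_tensor_left_of_kflat E (KProjFlat.kflat_of_isKProjective E) C hC)
    (curryHom ev₁)
  have hcan : QuasiIso (curryHom ((α_ E V P).hom ≫ E ◁ ev₁)) ↔ QuasiIso (canon E N P) := by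
    rw [curryHom_assoc_whiskerLeft]
    exact quasiIso_iff_comp_left _ _
  rw [← hcan, hP2, isIso_bcMapG_iff h adjρ adjα adj adj' K hcmp]
  refine forall_congr' (fun H => forall_congr' (fun _ => ?_))
  have e : testMap (algebraMap R A) (E ⊗ N)
      (wMap h adjρ adjα adj K ≫ (DRing.restrictD (algebraMap R R')).map (L.map eN.inv) ≫
        inv (kap adjρ E q N)) H =
      (fun z => z ≫ ((DRing.restrictD (algebraMap R R')).map (L.map eN.inv) ≫
        inv (kap adjρ E q N))) ∘
        fS h adjρ adjα adj K (DerivedCategory.Q.obj ((extCx (algebraMap R A)).obj H)) := by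
    funext x
    dsimp only [testMap, fS, Function.comp]
    rw [Category.assoc]
  rw [e]
  exact (Function.Bijective.of_comp_iff' (bij_postcomp _ _) _).symm

end Core

end Groth.Agent.Lib.Helper90.TrivBCLib
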