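import Groth.Agent.Lib.Helper90.TrivBC.Kappa
import Groth.Agent.Lib.Helper90.DTen.EvalTenCx

/-!
# The base change map of trivial duality is an isomorphism iff `canon E N P` is a
quasi-isomorphism (helper90)
-/

set_option autoImplicit false
set_option linter.style.haveILetI false
set_option linter.unusedSectionVars false
set_option backward.isDefEq.respectTransparency false
universe u
open CategoryTheory CategoryTheory.Limits MonoidalCategory
attribute [local instance] HasDerivedCategory.standard

namespace Groth.Agent.Lib.Helper90.TrivBCLib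

open _root_.DTen Groth.Agent.Lib.Helper28 Groth.Agent.Lib.Helper26.AdjKProj
  Groth.Agent.Lib.Helper90.DTen.BC Groth.Agent.Lib.Helper90.DTen.Rel
  Groth.Agent.Lib.Helper90.DTen Groth.Agent.Lib.Helper26.TensorHomCx
  Groth.Agent.Lib.Helper26.KProjQ

section Curry

variable {R : Type u} [CommRing R]

/-- Currying a pairing tensored with `E` on the left. -/
lemma curryHom_assoc_whiskerLeft (E V P N : DRing.Cx R) (g : V ⊗ P ⟶ N) :
    curryHom ((α_ E V P).hom ≫ E ◁ g) = (E ◁ curryHom g) ≫ canon E N P := by
  rw [← curryHom_uncurryHom ((E ◁ curryHom g) ≫ canon E N P), uncurryHom_comp_left]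
  dsimp only [canon]
  rw [uncurryHom_curryHom, associator_naturality_middle_assoc, ← MonoidalCategory.whiskerLeft_comp,
    ← uncurryHom_eq, uncurryHom_curryHom]

end Curry

section Model

open Groth.Agent.Lib.Helper6.PushoutBC

variable (R A R' A' : Type u) [CommRing R] [CommRing A] [Algebra R A] [CommRing R'] [Algebra R R']
  [CommRing A'] [Algebra A A'] [Algebra R' A'] [Algebra R A'] [IsScalarTower R A A']
  [IsScalarTower R R' A'] [Algebra.IsPushout R R' A A']
  (h : (algebraMap A A').comp (algebraMap R A) = (algebraMap R' A').comp (algebraMap R R'))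
  {L : Dual.D R ⥤ Dual.D R'} {M : Dual.D A ⥤ Dual.D A'}
  (adjρ : L ⊣ DRing.restrictD (algebraMap R R')) (adjα : M ⊣ DRing.restrictD (algebraMap A A'))
  {Rφ : Dual.D R ⥤ Dual.D A} (adj : DRing.restrictD (algebraMap R A) ⊣ Rφ)
  (K : Dual.D R)
  (E : DRing.Cx R) (q : E ⟶ resUnit (algebraMap R R'))
  (P : DRing.Cx R) (p : P ⟶ resUnit (algebraMap R A))
  (N : DRing.Cx R) (eN : DerivedCategory.Q.obj N ≅ K)
  (W : DRing.Cx A) (eW : DerivedCategory.Q.obj W ≅ Rφ.obj K)
  (V : DRing.Cx R) (k : V ⟶ (resCx (algebraMap R A)).obj W)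
  (ev₁ : V ⊗ P ⟶ N)

/-- Step A: the action of `P` on the model `ext E ⊗ W`, through `k₂`. -/
lemma stepA :
    (((E ◁ k) ≫ pf (algebraMap R A) E W) ▷ P) ≫
        act (algebraMap R A) P p ((extCx (algebraMap R A)).obj E ⊗ W) =
      (α_ E V P).hom ≫ (E ◁ ((k ▷ P) ≫ act (algebraMap R A) P p W)) ≫
        pf (algebraMap R A) E W := by
  have h1 := pf_act (algebraMap R A) P p E W
  rw [comp_whiskerRight, Category.assoc, h1, associator_naturality_middle_assoc,
    MonoidalCategory.whiskerLeft_comp, Category.assoc]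

/-- The counit on the model `W`. -/
noncomputable def e₀ : DerivedCategory.Q.obj ((resCx (algebraMap R A)).obj W) ⟶ K :=
  (resFactors (algebraMap R A)).inv.app W ≫ (DRing.restrictD (algebraMap R A)).map eW.hom ≫
    adj.counit.app K

/-- Step B: the trace of the second pair on the model, through `kap`. -/
lemma stepB [IsIso (cmpG adjρ adjα h (Rφ.obj K))]
    [IsIso (cmpG adjρ adjα h (DerivedCategory.Q.obj W))] [IsIso (baseCmpG adjα W)]
    [IsIso (baseCmpG adjρ ((resCx (algebraMap R A)).obj W))] :
    DerivedCategory.Q.map (pf (algebraMap R A) E W) ≫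
      (resFactors (algebraMap R A)).inv.app ((extCx (algebraMap R A)).obj E ⊗ W) ≫
      (DRing.restrictD (algebraMap R A)).map
        (kap adjα ((extCx (algebraMap R A)).obj E) (qTilde R A R' A' h E q) W ≫
          (DRing.restrictD (algebraMap A A')).map (M.map eW.hom)) ≫
      wMap h adjρ adjα adj K =
    kap adjρ E q ((resCx (algebraMap R A)).obj W) ≫
      (DRing.restrictD (algebraMap R R')).map (L.map (e₀ R A adj K W eW)) := by
  have n1 := (TrivBC.resComm h).hom.naturality (M.map eW.hom)
  dsimp only [Functor.comp_obj, Functor.comp_map] at n1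
  have n2 : (DRing.restrictD (algebraMap R' A')).map (M.map eW.hom) ≫
      inv (cmpG adjρ adjα h (Rφ.obj K)) =
      inv (cmpG adjρ adjα h (DerivedCategory.Q.obj W)) ≫
        L.map ((DRing.restrictD (algebraMap R A)).map eW.hom) := by
    rw [IsIso.comp_inv_eq, Category.assoc, IsIso.eq_inv_comp]
    exact (cmpG_naturality adjρ adjα h eW.hom).symm
  have n3 : L.map ((DRing.restrictD (algebraMap R A)).map eW.hom) ≫ L.map (adj.counit.app K) =
      L.map ((resFactors (algebraMap R A)).hom.app W) ≫ L.map (e₀ R A adj K W eW) := by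
    dsimp only [e₀]
    rw [← Functor.map_comp, ← Functor.map_comp, Iso.hom_inv_id_app_assoc]
  have n23 : (DRing.restrictD (algebraMap R R')).map
        ((DRing.restrictD (algebraMap R' A')).map (M.map eW.hom)) ≫
      (DRing.restrictD (algebraMap R R')).map
        (inv (cmpG adjρ adjα h (Rφ.obj K)) ≫ L.map (adj.counit.app K)) =
      (DRing.restrictD (algebraMap R R')).map
          (inv (cmpG adjρ adjα h (DerivedCategory.Q.obj W))) ≫
        (DRing.restrictD (algebraMap R R')).map
          (L.map ((resFactors (algebraMap R A)).hom.app W)) ≫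
        (DRing.restrictD (algebraMap R R')).map (L.map (e₀ R A adj K W eW)) := by
    rw [← Functor.map_comp, ← Functor.map_comp, ← Functor.map_comp, ← Category.assoc, n2,
      Category.assoc, n3]
  have hk := kap_compat R A R' A' h adjρ adjα E q W
  dsimp only [wMap, mMap]
  rw [Functor.map_comp]
  simp only [Category.assoc]
  rw [reassoc_of% n1, n23, ← hk]
  simp only [Category.assoc]


/-- Step C: the second pairing is computed by the second pair. -/
lemma stepC [IsIso (cmpG adjρ adjα h (Rφ.obj K))]
    [IsIso (cmpG adjρ adjα h (DerivedCategory.Q.obj W))] [IsIso (baseCmpG adjα W)]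
    [IsIso (baseCmpG adjρ ((resCx (algebraMap R A)).obj W))]
    [IsIso (baseCmpG adjρ N)] [IsIso (baseCmpG adjρ (V ⊗ P))]
    [IsIso (kap adjρ E q N)]
    (eW₂ : DerivedCategory.Q.obj ((extCx (algebraMap R A)).obj E ⊗ W) ≅
      (DRing.restrictD (algebraMap A A')).obj (M.obj (Rφ.obj K)))
    (heW₂ : eW₂.hom = kap adjα ((extCx (algebraMap R A)).obj E) (qTilde R A R' A' h E q) W ≫
      (DRing.restrictD (algebraMap A A')).map (M.map eW.hom))
    (hev₁ : DerivedCategory.Q.map ev₁ =
      DerivedCategory.Q.map ((k ▷ P) ≫ act (algebraMap R A) P p W) ≫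
        trW (algebraMap R A) N (adj.counit.app K ≫ eN.inv) W eW) :
    DerivedCategory.Q.map ((α_ E V P).hom ≫ E ◁ ev₁) =
      DerivedCategory.Q.map ((((E ◁ k) ≫ pf (algebraMap R A) E W) ▷ P) ≫
        act (algebraMap R A) P p ((extCx (algebraMap R A)).obj E ⊗ W)) ≫
      trW (algebraMap R A) (E ⊗ N)
        (wMap h adjρ adjα adj K ≫ (DRing.restrictD (algebraMap R R')).map (L.map eN.inv) ≫
          inv (kap adjρ E q N)) ((extCx (algebraMap R A)).obj E ⊗ W) eW₂ := by
  have hB := stepB R A R' A' h adjρ adjα adj K E q W eW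
  have n1 := kap_naturality adjρ E q ((k ▷ P) ≫ act (algebraMap R A) P p W)
  have n2 := kap_naturality adjρ E q ev₁
  have he : trW (algebraMap R A) N (adj.counit.app K ≫ eN.inv) W eW =
      e₀ R A adj K W eW ≫ eN.inv := by
    dsimp only [trW, e₀]
    simp only [Category.assoc]
  rw [he] at hev₁
  have e : (DRing.restrictD (algebraMap R R')).map
        (L.map (DerivedCategory.Q.map ((k ▷ P) ≫ act (algebraMap R A) P p W))) ≫
      (DRing.restrictD (algebraMap R R')).map (L.map (e₀ R A adj K W eW)) ≫
      (DRing.restrictD (algebraMap R R')).map (L.map eN.inv) =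
      (DRing.restrictD (algebraMap R R')).map (L.map (DerivedCategory.Q.map ev₁)) := by
    rw [hev₁]
    simp only [Functor.map_comp, Category.assoc]
  rw [stepA]
  dsimp only [trW]
  rw [heW₂, Functor.map_comp, Functor.map_comp, Functor.map_comp]
  simp only [Category.assoc]
  rw [reassoc_of% hB, reassoc_of% n1, reassoc_of% e, ← reassoc_of% n2, IsIso.hom_inv_id,
    Category.comp_id]

end Model

end Groth.Agent.Lib.Helper90.TrivBCLib
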