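import Groth.Agent.Lib.Helper90.DTen.Rel.Pairing

/-!
# The pairing criterion: a pair `(om, tr)` over a complex `N` is universal iff the curried pairing
is a quasi-isomorphism (helper90)

This generalises `Rel/Pairing.lean` (where `N = 𝟙`) and makes the criterion an equivalence.
-/

set_option autoImplicit false
set_option linter.style.haveILetI false
set_option linter.unusedSectionVars false
set_option backward.isDefEq.respectTransparency false
universe u
open CategoryTheory CategoryTheory.Limits MonoidalCategory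
attribute [local instance] HasDerivedCategory.standard

namespace Groth.Agent.Lib.Helper90.TrivBCLib

open _root_.DTen Groth.Agent.Lib.Helper28 Groth.Agent.Lib.Helper26.AdjKProj
  Groth.Agent.Lib.Helper90.DTen.BC Groth.Agent.Lib.Helper26.KProjQ
  Groth.Agent.Lib.Helper26.TensorHomCx Groth.Agent.Lib.Helper90.DTen
  Groth.Agent.Lib.Helper90.DTen.Rel

variable {R A : Type u} [CommRing R] [CommRing A] (φ : R →+* A)
  (P : DRing.Cx R) [P.IsKProjective] (p : P ⟶ resUnit φ) [QuasiIso p]
  (N : DRing.Cx R) {om : Dual.D A} (tr : (DRing.restrictD φ).obj om ⟶ DerivedCategory.Q.obj N)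
  (W : DRing.Cx A) (eW : DerivedCategory.Q.obj W ≅ om)

/-- The trace on the model `W`. -/
noncomputable def trW : DerivedCategory.Q.obj ((resCx φ).obj W) ⟶ DerivedCategory.Q.obj N :=
  (resFactors φ).inv.app W ≫ (DRing.restrictD φ).map eW.hom ≫ tr

section Lambda

variable (H : DRing.Cx R) [H.IsKProjective]

instance isIso_Q_uR' : IsIso (DerivedCategory.Q.map (uR φ P p H)) := by
  haveI := quasiIso_uR φ P p H
  infer_instance

/-- the bijection `adjunctD` as an equivalence -/
noncomputable def adjDEquiv' :
    (DerivedCategory.Q.obj ((extCx φ).obj H) ⟶ DerivedCategory.Q.obj W) ≃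
      (DerivedCategory.Q.obj H ⟶ (DRing.restrictD φ).obj (DerivedCategory.Q.obj W)) :=
  Equiv.ofBijective _ (bijective_adjunctD (mAdj φ) H (DerivedCategory.Q.obj W))

lemma adjDEquiv'_symm_Q_map (y : H ⟶ (resCx φ).obj W) :
    (adjDEquiv' φ W H).symm (DerivedCategory.Q.map y ≫ (resFactors φ).inv.app W) =
      DerivedCategory.Q.map (adjunctInv (mAdj φ) y) := by
  rw [Equiv.symm_apply_eq]
  change _ = adjunctD (mAdj φ) H (DerivedCategory.Q.obj W)
    (DerivedCategory.Q.map (adjunctInv (mAdj φ) y))
  rw [adjunctD_Q_map, adjunct_adjunctInv]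

/-- The test map of the universal property. -/
noncomputable def testMap (x : DerivedCategory.Q.obj ((extCx φ).obj H) ⟶ om) :
    (DRing.restrictD φ).obj (DerivedCategory.Q.obj ((extCx φ).obj H)) ⟶ DerivedCategory.Q.obj N :=
  (DRing.restrictD φ).map x ≫ tr

/-- The pairing map on the derived level. -/
noncomputable def lamD' (z : DerivedCategory.Q.obj H ⟶ DerivedCategory.Q.obj ((resCx φ).obj W)) :
    DerivedCategory.Q.obj (H ⊗ P) ⟶ DerivedCategory.Q.obj N :=
  DerivedCategory.Q.map (uR φ P p H) ≫ (resFactors φ).inv.app ((extCx φ).obj H) ≫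
    testMap φ N tr H ((adjDEquiv' φ W H).symm (z ≫ (resFactors φ).inv.app W) ≫ eW.hom)

lemma bijective_lamD'_iff :
    Function.Bijective (lamD' φ P p N tr W eW H) ↔ Function.Bijective (testMap φ N tr H) := by
  have h1 := bij_postcomp (DerivedCategory.Q.obj H) ((resFactors φ).inv.app W)
  have h2 := (adjDEquiv' φ W H).symm.bijective
  have h3 := bij_postcomp (DerivedCategory.Q.obj ((extCx φ).obj H)) eW.hom
  have h5 := bij_precomp (DerivedCategory.Q.obj N)
    (DerivedCategory.Q.map (uR φ P p H) ≫ (resFactors φ).inv.app ((extCx φ).obj H))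
  have h123 := h3.comp (h2.comp h1)
  have e : lamD' φ P p N tr W eW H =
      (fun z => (DerivedCategory.Q.map (uR φ P p H) ≫
        (resFactors φ).inv.app ((extCx φ).obj H)) ≫ z) ∘ (testMap φ N tr H ∘
          ((fun z => z ≫ eW.hom) ∘ ((adjDEquiv' φ W H).symm ∘
            (fun z => z ≫ (resFactors φ).inv.app W)))) := by
    funext z
    dsimp only [lamD', Function.comp]
    rw [Category.assoc]
  rw [e, Function.Bijective.of_comp_iff' h5, Function.Bijective.of_comp_iff _ h123]

lemma lamD'_Q_map (y : H ⟶ (resCx φ).obj W) :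
    lamD' φ P p N tr W eW H (DerivedCategory.Q.map y) =
      DerivedCategory.Q.map ((y ▷ P) ≫ act φ P p W) ≫ trW φ N tr W eW := by
  dsimp only [lamD', trW, testMap]
  rw [adjDEquiv'_symm_Q_map]
  have h1 := uR_comp_res φ P p (adjunctInv (mAdj φ) y)
  rw [adjunct_adjunctInv] at h1
  have h2 := (resFactors φ).inv.naturality (adjunctInv (mAdj φ) y)
  dsimp only [Functor.comp_obj, Functor.comp_map] at h2
  rw [← h1, Functor.map_comp, Functor.map_comp, Category.assoc, Category.assoc, reassoc_of% h2]

end Lambda

section Dual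

variable (V : DRing.Cx R) [V.IsKProjective] (k : V ⟶ (resCx φ).obj W) [QuasiIso k]
  (ev : V ⊗ P ⟶ N)
  (hev : DerivedCategory.Q.map ev =
    DerivedCategory.Q.map ((k ▷ P) ≫ act φ P p W) ≫ trW φ N tr W eW)

include hev in
lemma uncurryD_comp_curry (H : DRing.Cx R) [H.IsKProjective]
    (z : DerivedCategory.Q.obj H ⟶ DerivedCategory.Q.obj V) :
    uncurryD H P N (z ≫ DerivedCategory.Q.map (curryHom ev)) =
      lamD' φ P p N tr W eW H (z ≫ DerivedCategory.Q.map k) := by
  obtain ⟨y, rfl⟩ := Q_map_surjective H _ z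
  rw [← Functor.map_comp, ← Functor.map_comp, uncurryD_Q_map, lamD'_Q_map, uncurryHom_comp_left,
    uncurryHom_curryHom, Functor.map_comp, hev]
  simp only [Functor.map_comp, Category.assoc, comp_whiskerRight]

include hev in
/-- **The pairing criterion.** -/
theorem quasiIso_curry_iff :
    QuasiIso (curryHom ev) ↔
      ∀ (H : DRing.Cx R) [H.IsKProjective], Function.Bijective (testMap φ N tr H) := by
  have key : ∀ (H : DRing.Cx R) [H.IsKProjective],
      (Function.Bijective (fun z : DerivedCategory.Q.obj H ⟶ DerivedCategory.Q.obj V =>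
        z ≫ DerivedCategory.Q.map (curryHom ev)) ↔ Function.Bijective (testMap φ N tr H)) := by
    intro H _
    have h1 := bijective_uncurryD H P N
    have hk := bij_postcomp (DerivedCategory.Q.obj H) (DerivedCategory.Q.map k)
    have h3 : uncurryD H P N ∘
        (fun z : DerivedCategory.Q.obj H ⟶ DerivedCategory.Q.obj V =>
          z ≫ DerivedCategory.Q.map (curryHom ev)) =
        lamD' φ P p N tr W eW H ∘ (fun z => z ≫ DerivedCategory.Q.map k) := by
      funext z
      exact uncurryD_comp_curry φ P p N tr W eW V k ev hev H z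
    rw [← bijective_lamD'_iff φ P p N tr W eW H, ← Function.Bijective.of_comp_iff _ hk, ← h3,
      Function.Bijective.of_comp_iff' h1]
  constructor
  · intro hq H _
    haveI := hq
    rw [← key H]
    exact bij_postcomp (DerivedCategory.Q.obj H) (DerivedCategory.Q.map (curryHom ev))
  · intro hb
    rw [← DerivedCategory.isIso_Q_map_iff_quasiIso]
    apply isIso_of_bijective_kproj
    intro H _
    exact (key H).2 (hb H)

end Dual

end Groth.Agent.Lib.Helper90.TrivBCLib
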