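import Groth.Agent.Lib.Helper90.TrivBC.BaseCmpG
import Groth.Agent.Lib.Helper90.TrivBC.PairingK

/-!
# The base change map of trivial duality is an isomorphism iff a pair is universal (helper90)
-/

set_option autoImplicit false
set_option linter.style.haveILetI false
set_option linter.unusedSectionVars false
universe u
open CategoryTheory CategoryTheory.Limits
attribute [local instance] HasDerivedCategory.standard

namespace Groth.Agent.Lib.Helper90.TrivBCLib

open _root_.DTen Groth.Agent.Lib.Helper90.DTen.Rel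

variable {R A R' A' : Type u} [CommRing R] [CommRing A] [CommRing R'] [CommRing A']
  {φ : R →+* A} {ρ : R →+* R'} {α : A →+* A'} {φ' : R' →+* A'} (h : α.comp φ = φ'.comp ρ)
  {L : Dual.D R ⥤ Dual.D R'} {M : Dual.D A ⥤ Dual.D A'}
  (adjρ : L ⊣ DRing.restrictD ρ) (adjα : M ⊣ DRing.restrictD α)
  {Rφ : Dual.D R ⥤ Dual.D A} (adj : DRing.restrictD φ ⊣ Rφ)
  {Rφ' : Dual.D R' ⥤ Dual.D A'} (adj' : DRing.restrictD φ' ⊣ Rφ')
  (K : Dual.D R) [hc : IsIso (cmpG adjρ adjα h (Rφ.obj K))]

/-- `(R Hom(A, K) ⊗ A')|_{R'} ⟶ K ⊗ R'`. -/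
noncomputable def mMap : (DRing.restrictD φ').obj (M.obj (Rφ.obj K)) ⟶ L.obj K :=
  inv (cmpG adjρ adjα h (Rφ.obj K)) ≫ L.map (adj.counit.app K)

/-- The base change map for arbitrary left adjoints. -/
noncomputable def bcMapG : M.obj (Rφ.obj K) ⟶ Rφ'.obj (L.obj K) :=
  adj'.homEquiv _ _ (mMap h adjρ adjα adj K)

/-- The trace of the pair `((R Hom(A, K) ⊗ A')|_A, w)`. -/
noncomputable def wMap : (DRing.restrictD φ).obj ((DRing.restrictD α).obj (M.obj (Rφ.obj K))) ⟶
    (DRing.restrictD ρ).obj (L.obj K) :=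
  (TrivBC.resComm h).hom.app (M.obj (Rφ.obj K)) ≫ (DRing.restrictD ρ).map (mMap h adjρ adjα adj K)

lemma key_yoneda (S : Dual.D A) (z' : M.obj S ⟶ M.obj (Rφ.obj K)) :
    adjρ.homEquiv _ _ (cmpG adjρ adjα h S ≫
      (adj'.homEquiv _ _).symm (z' ≫ bcMapG h adjρ adjα adj adj' K)) =
    (DRing.restrictD φ).map (adjα.homEquiv _ _ z') ≫ wMap h adjρ adjα adj K := by
  have e1 : (adj'.homEquiv _ _).symm (z' ≫ bcMapG h adjρ adjα adj adj' K) =
      (DRing.restrictD φ').map z' ≫ mMap h adjρ adjα adj K := by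
    rw [Adjunction.homEquiv_naturality_left_symm]
    dsimp only [bcMapG]
    rw [Equiv.symm_apply_apply]
  have h1 := (TrivBC.resComm h).hom.naturality z'
  dsimp only [Functor.comp_obj, Functor.comp_map] at h1
  rw [e1, Adjunction.homEquiv_unit, Adjunction.homEquiv_unit, Functor.map_comp, Functor.map_comp,
    ← Category.assoc, unit_cmpG, Category.assoc]
  dsimp only [wMap]
  rw [Functor.map_comp, Category.assoc, reassoc_of% h1]

/-- The test map of the pair `((R Hom(A, K) ⊗ A')|_A, w)` at `S`. -/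
noncomputable def fS (S : Dual.D A) (z : S ⟶ (DRing.restrictD α).obj (M.obj (Rφ.obj K))) :
    (DRing.restrictD φ).obj S ⟶ (DRing.restrictD ρ).obj (L.obj K) :=
  (DRing.restrictD φ).map z ≫ wMap h adjρ adjα adj K

lemma bijective_fS_iff (S : Dual.D A) [IsIso (cmpG adjρ adjα h S)] :
    Function.Bijective (fS h adjρ adjα adj K S) ↔
      Function.Bijective (fun z' : M.obj S ⟶ M.obj (Rφ.obj K) =>
        z' ≫ bcMapG h adjρ adjα adj adj' K) := by
  have hb : Function.Bijective (fun u : M.obj S ⟶ Rφ'.obj (L.obj K) =>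
      adjρ.homEquiv _ _ (cmpG adjρ adjα h S ≫ (adj'.homEquiv _ _).symm u)) :=
    (adjρ.homEquiv _ _).bijective.comp
      ((bij_precomp (L.obj K) (cmpG adjρ adjα h S)).comp (adj'.homEquiv _ _).symm.bijective)
  have ha := (adjα.homEquiv S (M.obj (Rφ.obj K))).bijective
  have e : (fun u : M.obj S ⟶ Rφ'.obj (L.obj K) =>
        adjρ.homEquiv _ _ (cmpG adjρ adjα h S ≫ (adj'.homEquiv _ _).symm u)) ∘
      (fun z' : M.obj S ⟶ M.obj (Rφ.obj K) => z' ≫ bcMapG h adjρ adjα adj adj' K) =
      fS h adjρ adjα adj K S ∘ (adjα.homEquiv S (M.obj (Rφ.obj K))) := by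
    funext z'
    exact key_yoneda h adjρ adjα adj adj' K S z'
  rw [← Function.Bijective.of_comp_iff' hb, e, Function.Bijective.of_comp_iff _ ha]

/-- **Yoneda criterion.** -/
theorem isIso_bcMapG_iff (hcmp : ∀ S : Dual.D A, IsIso (cmpG adjρ adjα h S)) :
    IsIso (bcMapG h adjρ adjα adj adj' K) ↔
      ∀ (H : DRing.Cx R) [H.IsKProjective],
        Function.Bijective (fS h adjρ adjα adj K (DerivedCategory.Q.obj ((extCx φ).obj H))) := by
  constructor
  · intro hiso H _
    haveI := hcmp (DerivedCategory.Q.obj ((extCx φ).obj H))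
    rw [bijective_fS_iff h adjρ adjα adj adj' K]
    exact bij_postcomp _ _
  · intro hb
    apply isIso_of_isIso_restrictD α
    apply isIso_of_bijective_ext φ
    intro H _
    haveI := hcmp (DerivedCategory.Q.obj ((extCx φ).obj H))
    have h1 := (bijective_fS_iff h adjρ adjα adj adj' K
      (DerivedCategory.Q.obj ((extCx φ).obj H))).1 (hb H)
    have ha := (adjα.homEquiv (DerivedCategory.Q.obj ((extCx φ).obj H))
      (M.obj (Rφ.obj K))).bijective
    have ha' := (adjα.homEquiv (DerivedCategory.Q.obj ((extCx φ).obj H))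
      (Rφ'.obj (L.obj K))).bijective
    have e : (fun x : DerivedCategory.Q.obj ((extCx φ).obj H) ⟶
          (DRing.restrictD α).obj (M.obj (Rφ.obj K)) =>
          x ≫ (DRing.restrictD α).map (bcMapG h adjρ adjα adj adj' K)) ∘
        (adjα.homEquiv _ _) =
        (adjα.homEquiv _ _) ∘ (fun z' : M.obj (DerivedCategory.Q.obj ((extCx φ).obj H)) ⟶
          M.obj (Rφ.obj K) => z' ≫ bcMapG h adjρ adjα adj adj' K) := by
      funext z'
      dsimp only [Function.comp]
      rw [Adjunction.homEquiv_naturality_right]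
    have h2 := ha'.comp h1
    rw [← e] at h2
    exact (Function.Bijective.of_comp_iff _ ha).1 h2

end Groth.Agent.Lib.Helper90.TrivBCLib
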