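import Groth.Prelude.Def_TrivBC

/-!
# The comparison map `cmp` of `Def_TrivBC` for arbitrary left adjoints of restriction (helper90)

`cmpG` is `TrivBC.cmp` with the derived base change functors replaced by arbitrary left adjoints of
the restriction functors; it is natural, and changing the adjunctions changes it by isomorphisms.
-/

set_option autoImplicit false
universe u
open CategoryTheory CategoryTheory.Limits
attribute [local instance] HasDerivedCategory.standard

namespace Groth.Agent.Lib.Helper90.TrivBCLib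

variable {R A R' A' : Type u} [CommRing R] [CommRing A] [CommRing R'] [CommRing A']
  {φ : R →+* A} {ρ : R →+* R'} {α : A →+* A'} {φ' : R' →+* A'}

section

variable {L : Dual.D R ⥤ Dual.D R'} {M : Dual.D A ⥤ Dual.D A'}
  (adjρ : L ⊣ DRing.restrictD ρ) (adjα : M ⊣ DRing.restrictD α) (h : α.comp φ = φ'.comp ρ)

/-- The comparison map for arbitrary left adjoints of the restriction functors. -/
noncomputable def cmpG (K : Dual.D A) :
    L.obj ((DRing.restrictD φ).obj K) ⟶ (DRing.restrictD φ').obj (M.obj K) :=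
  (adjρ.homEquiv _ _).symm
    ((DRing.restrictD φ).map (adjα.unit.app K) ≫ (TrivBC.resComm h).hom.app (M.obj K))

lemma unit_cmpG (K : Dual.D A) :
    adjρ.unit.app ((DRing.restrictD φ).obj K) ≫ (DRing.restrictD ρ).map (cmpG adjρ adjα h K) =
      (DRing.restrictD φ).map (adjα.unit.app K) ≫ (TrivBC.resComm h).hom.app (M.obj K) := by
  have h1 := (adjρ.homEquiv _ _).apply_symm_apply
    ((DRing.restrictD φ).map (adjα.unit.app K) ≫ (TrivBC.resComm h).hom.app (M.obj K))
  rw [Adjunction.homEquiv_unit] at h1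
  exact h1

/-- Two maps out of `L.obj X` agree if their adjuncts agree. -/
lemma hom_ext_of_unit {X : Dual.D R} {Y : Dual.D R'} (f g : L.obj X ⟶ Y)
    (hfg : adjρ.unit.app X ≫ (DRing.restrictD ρ).map f =
      adjρ.unit.app X ≫ (DRing.restrictD ρ).map g) : f = g := by
  apply (adjρ.homEquiv _ _).injective
  rw [Adjunction.homEquiv_unit, Adjunction.homEquiv_unit]
  exact hfg

lemma cmpG_naturality {K K' : Dual.D A} (f : K ⟶ K') :
    L.map ((DRing.restrictD φ).map f) ≫ cmpG adjρ adjα h K' =
      cmpG adjρ adjα h K ≫ (DRing.restrictD φ').map (M.map f) := by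
  apply hom_ext_of_unit adjρ
  have h0 := adjρ.unit.naturality ((DRing.restrictD φ).map f)
  have h1 := (TrivBC.resComm h).hom.naturality (M.map f)
  have h2 := adjα.unit.naturality f
  dsimp only [Functor.comp_obj, Functor.comp_map, Functor.id_obj, Functor.id_map] at h0 h1 h2
  rw [Functor.map_comp, Functor.map_comp, ← Category.assoc, ← h0, Category.assoc, unit_cmpG,
    ← Category.assoc (adjρ.unit.app _), unit_cmpG, Category.assoc, ← h1,
    ← Functor.map_comp_assoc, ← Functor.map_comp_assoc, h2]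

end

lemma cmp_eq_cmpG [DRing.HasLBaseChange ρ] [DRing.HasLBaseChange α]
    (adjρ : DRing.LBaseChange ρ ⊣ DRing.restrictD ρ)
    (adjα : DRing.LBaseChange α ⊣ DRing.restrictD α) (h : α.comp φ = φ'.comp ρ) (K : Dual.D A) :
    TrivBC.cmp adjρ adjα h K = cmpG adjρ adjα h K := rfl

section Change

variable {L₁ L₂ : Dual.D R ⥤ Dual.D R'} {M₁ M₂ : Dual.D A ⥤ Dual.D A'}
  (a₁ : L₁ ⊣ DRing.restrictD ρ) (a₂ : L₂ ⊣ DRing.restrictD ρ)
  (b₁ : M₁ ⊣ DRing.restrictD α) (b₂ : M₂ ⊣ DRing.restrictD α) (h : α.comp φ = φ'.comp ρ)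

/-- Changing the adjunctions changes `cmpG` by isomorphisms. -/
lemma cmpG_change (K : Dual.D A) :
    cmpG a₁ b₁ h K = (a₁.leftAdjointUniq a₂).hom.app ((DRing.restrictD φ).obj K) ≫
      cmpG a₂ b₂ h K ≫ (DRing.restrictD φ').map ((b₂.leftAdjointUniq b₁).hom.app K) := by
  apply hom_ext_of_unit a₁
  have h0 := Adjunction.unit_leftAdjointUniq_hom_app a₁ a₂ ((DRing.restrictD φ).obj K)
  have h1 := (TrivBC.resComm h).hom.naturality ((b₂.leftAdjointUniq b₁).hom.app K)
  have h2 := Adjunction.unit_leftAdjointUniq_hom_app b₂ b₁ K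
  dsimp only [Functor.comp_obj, Functor.comp_map] at h1
  rw [unit_cmpG, Functor.map_comp, Functor.map_comp, ← Category.assoc, h0,
    ← Category.assoc, unit_cmpG, Category.assoc, ← h1, ← Functor.map_comp_assoc, h2]

lemma isIso_cmpG_of_isIso (K : Dual.D A) [IsIso (cmpG a₂ b₂ h K)] : IsIso (cmpG a₁ b₁ h K) := by
  rw [cmpG_change a₁ a₂ b₁ b₂ h K]
  infer_instance

end Change

end Groth.Agent.Lib.Helper90.TrivBCLib
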