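import Groth.Agent.Lib.Helper90.TrivBC.UnitRes

/-!
# The identification `Q (E ⊗ X) ≅ (L (Q X))|_R` and its compatibility with the comparison map
(helper90)
-/

set_option autoImplicit false
set_option linter.style.haveILetI false
set_option linter.unusedSectionVars false
set_option backward.isDefEq.respectTransparency false
universe u
open CategoryTheory CategoryTheory.Limits MonoidalCategory
attribute [local instance] HasDerivedCategory.standard

namespace Groth.Agent.Lib.Helper90.TrivBCLib

open _root_.DTen Groth.Agent.Lib.Helper28 Groth.Agent.Lib.Helper26.AdjKProj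
  Groth.Agent.Lib.Helper90.DTen.BC Groth.Agent.Lib.Helper90.DTen.Rel

section One

variable {R R' : Type u} [CommRing R] [CommRing R'] {ρ : R →+* R'}
  {L : Dual.D R ⥤ Dual.D R'} (adjρ : L ⊣ DRing.restrictD ρ)
  (E : DRing.Cx R) (q : E ⟶ resUnit ρ)

/-- `(L (Q X))|_R ⟶ Q (res (ext X))`. -/
noncomputable def lamG (X : DRing.Cx R) :
    (DRing.restrictD ρ).obj (L.obj (DerivedCategory.Q.obj X)) ⟶
      DerivedCategory.Q.obj ((resCx ρ).obj ((extCx ρ).obj X)) :=
  (DRing.restrictD ρ).map (baseCmpG adjρ X) ≫ (resFactors ρ).hom.app ((extCx ρ).obj X)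

lemma lamG_naturality {X Y : DRing.Cx R} (f : X ⟶ Y) :
    (DRing.restrictD ρ).map (L.map (DerivedCategory.Q.map f)) ≫ lamG adjρ Y =
      lamG adjρ X ≫ DerivedCategory.Q.map ((resCx ρ).map ((extCx ρ).map f)) := by
  have h1 := baseCmpG_naturality adjρ f
  have h2 := (resFactors ρ).hom.naturality ((extCx ρ).map f)
  dsimp only [Functor.comp_obj, Functor.comp_map] at h2
  dsimp only [lamG]
  rw [← Category.assoc, ← Functor.map_comp, h1, Functor.map_comp, Category.assoc, h2,
    Category.assoc]

/-- `Q (E ⊗ X) ⟶ Q (res (ext X))`. -/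
noncomputable def nuG (X : DRing.Cx R) :
    DerivedCategory.Q.obj (E ⊗ X) ⟶ DerivedCategory.Q.obj ((resCx ρ).obj ((extCx ρ).obj X)) :=
  DerivedCategory.Q.map (uMap ρ E q X)

lemma nuG_naturality {X Y : DRing.Cx R} (f : X ⟶ Y) :
    DerivedCategory.Q.map (E ◁ f) ≫ nuG E q Y =
      nuG E q X ≫ DerivedCategory.Q.map ((resCx ρ).map ((extCx ρ).map f)) := by
  dsimp only [nuG]
  rw [← Functor.map_comp, ← Functor.map_comp, uMap_naturality]

/-- `Q (E ⊗ X) ⟶ (L (Q X))|_R`, for `X` such that `lamG X` is invertible. -/
noncomputable def kap (X : DRing.Cx R) [IsIso (lamG adjρ X)] :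
    DerivedCategory.Q.obj (E ⊗ X) ⟶ (DRing.restrictD ρ).obj (L.obj (DerivedCategory.Q.obj X)) :=
  nuG E q X ≫ inv (lamG adjρ X)

lemma kap_naturality {X Y : DRing.Cx R} [IsIso (lamG adjρ X)] [IsIso (lamG adjρ Y)] (f : X ⟶ Y) :
    DerivedCategory.Q.map (E ◁ f) ≫ kap adjρ E q Y =
      kap adjρ E q X ≫ (DRing.restrictD ρ).map (L.map (DerivedCategory.Q.map f)) := by
  dsimp only [kap]
  have h1 : DerivedCategory.Q.map ((resCx ρ).map ((extCx ρ).map f)) ≫ inv (lamG adjρ Y) =
      inv (lamG adjρ X) ≫ (DRing.restrictD ρ).map (L.map (DerivedCategory.Q.map f)) := by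
    rw [IsIso.eq_inv_comp, ← Category.assoc, ← lamG_naturality, Category.assoc,
      IsIso.hom_inv_id, Category.comp_id]
  rw [← Category.assoc, nuG_naturality, Category.assoc, Category.assoc, h1]

instance isIso_lamG_of_isIso (X : DRing.Cx R) [IsIso (baseCmpG adjρ X)] : IsIso (lamG adjρ X) := by
  dsimp only [lamG]
  infer_instance

end One

section Square

open Groth.Agent.Lib.Helper6.PushoutBC

variable (R A R' A' : Type u) [CommRing R] [CommRing A] [Algebra R A] [CommRing R'] [Algebra R R']
  [CommRing A'] [Algebra A A'] [Algebra R' A'] [Algebra R A'] [IsScalarTower R A A']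
  [IsScalarTower R R' A'] [Algebra.IsPushout R R' A A']
  (h : (algebraMap A A').comp (algebraMap R A) = (algebraMap R' A').comp (algebraMap R R'))
  {L : Dual.D R ⥤ Dual.D R'} {M : Dual.D A ⥤ Dual.D A'}
  (adjρ : L ⊣ DRing.restrictD (algebraMap R R')) (adjα : M ⊣ DRing.restrictD (algebraMap A A'))
  (E : DRing.Cx R) (q : E ⟶ resUnit (algebraMap R R')) (W : DRing.Cx A)

/-- `[K1]` -/
lemma K1 :
    (DRing.restrictD (algebraMap R R')).map (cmpG adjρ adjα h (DerivedCategory.Q.obj W)) ≫
      (DRing.restrictD (algebraMap R R')).map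
        ((DRing.restrictD (algebraMap R' A')).map (baseCmpG adjα W)) ≫
      (DRing.restrictD (algebraMap R R')).map
        ((resFactors (algebraMap R' A')).hom.app ((extCx (algebraMap A A')).obj W)) ≫
      (resFactors (algebraMap R R')).hom.app
        ((resCx (algebraMap R' A')).obj ((extCx (algebraMap A A')).obj W)) =
    (DRing.restrictD (algebraMap R R')).map (L.map ((resFactors (algebraMap R A)).hom.app W)) ≫
      lamG adjρ ((resCx (algebraMap R A)).obj W) ≫
        DerivedCategory.Q.map ((resCx (algebraMap R R')).map (bcCxIso R R' A' W).hom) := by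
  have h0 := cmpG_baseCmpG h adjρ adjα W (bcCxIso R R' A' W).hom (unit_bcCxIso R A R' A' h W)
  have h1 := (resFactors (algebraMap R R')).hom.naturality (bcCxIso R R' A' W).hom
  dsimp only [Functor.comp_obj, Functor.comp_map] at h1
  have h2 := congrArg (fun f => (DRing.restrictD (algebraMap R R')).map f ≫
    (resFactors (algebraMap R R')).hom.app
      ((resCx (algebraMap R' A')).obj ((extCx (algebraMap A A')).obj W))) h0
  simp only [Functor.map_comp, Category.assoc] at h2
  dsimp only [lamG]
  simp only [Category.assoc]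
  rw [h2, h1]

/-- `[K3]` -/
lemma K3 (X : DRing.Cx A') :
    (TrivBC.resComm h).hom.app (DerivedCategory.Q.obj X) ≫
      (DRing.restrictD (algebraMap R R')).map ((resFactors (algebraMap R' A')).hom.app X) ≫
        (resFactors (algebraMap R R')).hom.app ((resCx (algebraMap R' A')).obj X) =
    (DRing.restrictD (algebraMap R A)).map ((resFactors (algebraMap A A')).hom.app X) ≫
      (resFactors (algebraMap R A)).hom.app ((resCx (algebraMap A A')).obj X) ≫
        DerivedCategory.Q.map (cCx h X) := by
  have e2 : (DRing.restrictD (algebraMap R R')).map ((resFactors (algebraMap R' A')).inv.app X) ≫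
      (DRing.restrictD (algebraMap R R')).map ((resFactors (algebraMap R' A')).hom.app X) =
      𝟙 _ := by
    rw [← Functor.map_comp, Iso.inv_hom_id_app]
    exact (DRing.restrictD (algebraMap R R')).map_id _
  rw [resComm_hom_app_Q]
  simp only [Category.assoc]
  rw [reassoc_of% e2, Iso.inv_hom_id_app]
  erw [Category.comp_id]

/-- `(M2a)`: the identification `kap` for `α` restricts to the one for `ρ`. -/
theorem kap_compat [IsIso (baseCmpG adjα W)]
    [IsIso (baseCmpG adjρ ((resCx (algebraMap R A)).obj W))]
    [IsIso (cmpG adjρ adjα h (DerivedCategory.Q.obj W))] :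
    DerivedCategory.Q.map (pf (algebraMap R A) E W) ≫
      (resFactors (algebraMap R A)).inv.app ((extCx (algebraMap R A)).obj E ⊗ W) ≫
      (DRing.restrictD (algebraMap R A)).map
        (kap adjα ((extCx (algebraMap R A)).obj E) (qTilde R A R' A' h E q) W) ≫
      (TrivBC.resComm h).hom.app (M.obj (DerivedCategory.Q.obj W)) ≫
      (DRing.restrictD (algebraMap R R')).map (inv (cmpG adjρ adjα h (DerivedCategory.Q.obj W))) ≫
      (DRing.restrictD (algebraMap R R')).map (L.map ((resFactors (algebraMap R A)).hom.app W)) =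
    kap adjρ E q ((resCx (algebraMap R A)).obj W) := by
  haveI : IsIso (DerivedCategory.Q.map
      ((resCx (algebraMap R R')).map (bcCxIso R R' A' W).hom)) := inferInstance
  rw [← cancel_mono (lamG adjρ ((resCx (algebraMap R A)).obj W) ≫
    DerivedCategory.Q.map ((resCx (algebraMap R R')).map (bcCxIso R R' A' W).hom))]
  -- right-hand side
  have hR : kap adjρ E q ((resCx (algebraMap R A)).obj W) ≫
      lamG adjρ ((resCx (algebraMap R A)).obj W) ≫
        DerivedCategory.Q.map ((resCx (algebraMap R R')).map (bcCxIso R R' A' W).hom) =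
      DerivedCategory.Q.map (uMap (algebraMap R R') E q ((resCx (algebraMap R A)).obj W) ≫
        (resCx (algebraMap R R')).map (bcCxIso R R' A' W).hom) := by
    dsimp only [kap, nuG]
    rw [Category.assoc, IsIso.inv_hom_id_assoc, ← Functor.map_comp]
  rw [hR]
  -- left-hand side
  have k1 := K1 R A R' A' h adjρ adjα W
  have k2 := (TrivBC.resComm h).hom.naturality (baseCmpG adjα W)
  have k3 := K3 R A R' A' h ((extCx (algebraMap A A')).obj W)
  dsimp only [Functor.comp_obj, Functor.comp_map] at k2
  have e6 : (DRing.restrictD (algebraMap R R')).map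
        (inv (cmpG adjρ adjα h (DerivedCategory.Q.obj W))) ≫
      (DRing.restrictD (algebraMap R R')).map (cmpG adjρ adjα h (DerivedCategory.Q.obj W)) =
      𝟙 _ := by
    rw [← Functor.map_comp, IsIso.inv_hom_id]
    exact (DRing.restrictD (algebraMap R R')).map_id _
  have e4 : (DRing.restrictD (algebraMap R A)).map (inv (lamG adjα W)) ≫
      (DRing.restrictD (algebraMap R A)).map
        ((DRing.restrictD (algebraMap A A')).map (baseCmpG adjα W)) ≫
      (DRing.restrictD (algebraMap R A)).map
        ((resFactors (algebraMap A A')).hom.app ((extCx (algebraMap A A')).obj W)) = 𝟙 _ := by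
    rw [← Functor.map_comp, ← Functor.map_comp]
    have : inv (lamG adjα W) ≫ (DRing.restrictD (algebraMap A A')).map (baseCmpG adjα W) ≫
        (resFactors (algebraMap A A')).hom.app ((extCx (algebraMap A A')).obj W) = 𝟙 _ :=
      IsIso.inv_hom_id (lamG adjα W)
    rw [this]
    exact (DRing.restrictD (algebraMap R A)).map_id _
  have e2 := (resFactors (algebraMap R A)).inv.naturality
    (uMap (algebraMap A A') ((extCx (algebraMap R A)).obj E) (qTilde R A R' A' h E q) W)
  dsimp only [Functor.comp_obj, Functor.comp_map] at e2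
  have hstar := star_one R A R' A' h E q W
  dsimp only [kap, nuG]
  simp only [Functor.map_comp, Category.assoc]
  rw [← k1, reassoc_of% e6, ← reassoc_of% k2, k3, reassoc_of% e4, ← reassoc_of% e2,
    Iso.inv_hom_id_app_assoc, ← Functor.map_comp, ← Functor.map_comp, hstar, Functor.map_comp]

end Square

end Groth.Agent.Lib.Helper90.TrivBCLib
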