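import Groth.Agent.Lib.Helper90.TrivBC.CmpG
import Groth.Prelude.Def_DTen4

/-!
# `cmpG` on the image of a complex, in terms of a termwise comparison map (helper90)
-/

set_option autoImplicit false
universe u
open CategoryTheory CategoryTheory.Limits
attribute [local instance] HasDerivedCategory.standard

namespace Groth.Agent.Lib.Helper90.TrivBCLib

open DTen

variable {R A R' A' : Type u} [CommRing R] [CommRing A] [CommRing R'] [CommRing A']
  {φ : R →+* A} {ρ : R →+* R'} {α : A →+* A'} {φ' : R' →+* A'} (h : α.comp φ = φ'.comp ρ)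

/-- The termwise identification of the two restrictions of a complex of `A'`-modules to `R`. -/
noncomputable def cCx (X : DRing.Cx A') :
    (resCx φ).obj ((resCx α).obj X) ⟶ (resCx ρ).obj ((resCx φ').obj X) :=
  (Functor.mapHomologicalComplexCompIso (TrivBC.resCommMod h) (ComplexShape.up ℤ)).hom.app X ≫
    (Functor.mapHomologicalComplexCompIso
      (Iso.refl (ModuleCat.restrictScalars.{u} φ' ⋙ ModuleCat.restrictScalars.{u} ρ))
        (ComplexShape.up ℤ)).inv.app X

lemma resCommCx_hom_app (X : DRing.Cx A') :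
    (TrivBC.resCommCx h).hom.app X = DerivedCategory.Q.map (cCx h X) := by
  dsimp only [TrivBC.resCommCx, cCx, Iso.trans_hom, Iso.symm_hom, NatTrans.comp_app,
    Functor.associator_inv_app, Functor.associator_hom_app, Functor.isoWhiskerRight_hom,
    Functor.whiskerRight_app, Iso.symm_hom]
  erw [Category.id_comp, Category.comp_id]

section Lift

variable {B C E : Type u} [CommRing B] [CommRing C] [CommRing E] (g : C →+* E) (f : B →+* C)

lemma liftingRes₂_hom_app (X : DRing.Cx E) :
    (TrivBC.liftingRes₂ g f).iso.hom.app X =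
      (DRing.restrictD f).map ((resFactors g).hom.app X) ≫
        (resFactors f).hom.app ((resCx g).obj X) := by
  change 𝟙 _ ≫ (DRing.restrictD f).map ((resFactors g).hom.app X) ≫ 𝟙 _ ≫
    (resFactors f).hom.app ((resCx g).obj X) = _
  rw [Category.id_comp, Category.id_comp]

lemma liftingRes₂_inv_app (X : DRing.Cx E) :
    (TrivBC.liftingRes₂ g f).iso.inv.app X =
      (resFactors f).inv.app ((resCx g).obj X) ≫
        (DRing.restrictD f).map ((resFactors g).inv.app X) := by
  change (((resFactors f).inv.app ((resCx g).obj X) ≫ 𝟙 _) ≫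
    (DRing.restrictD f).map ((resFactors g).inv.app X)) ≫ 𝟙 _ = _
  rw [Category.comp_id, Category.comp_id]

end Lift

lemma resComm_hom_app_Q (X : DRing.Cx A') :
    (TrivBC.resComm h).hom.app (DerivedCategory.Q.obj X) =
      (DRing.restrictD φ).map ((resFactors α).hom.app X) ≫
        (resFactors φ).hom.app ((resCx α).obj X) ≫ DerivedCategory.Q.map (cCx h X) ≫
          (resFactors ρ).inv.app ((resCx φ').obj X) ≫
            (DRing.restrictD ρ).map ((resFactors φ').inv.app X) := by
  let l₁ := TrivBC.liftingRes₂ α φ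
  let l₂ := TrivBC.liftingRes₂ φ' ρ
  have key := Localization.liftNatTrans_app (DerivedCategory.Q (C := ModuleCat.{u} A'))
    (HomologicalComplex.quasiIso (ModuleCat.{u} A') (ComplexShape.up ℤ))
    ((ModuleCat.restrictScalars.{u} α).mapHomologicalComplex (ComplexShape.up ℤ) ⋙
      (ModuleCat.restrictScalars.{u} φ).mapHomologicalComplex (ComplexShape.up ℤ) ⋙
        DerivedCategory.Q)
    ((ModuleCat.restrictScalars.{u} φ').mapHomologicalComplex (ComplexShape.up ℤ) ⋙
      (ModuleCat.restrictScalars.{u} ρ).mapHomologicalComplex (ComplexShape.up ℤ) ⋙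
        DerivedCategory.Q)
    (DRing.restrictD α ⋙ DRing.restrictD φ) (DRing.restrictD φ' ⋙ DRing.restrictD ρ)
    (TrivBC.resCommCx h).hom X
  refine key.trans ?_
  rw [resCommCx_hom_app]
  have e₁ := liftingRes₂_hom_app α φ X
  have e₂ := liftingRes₂_inv_app φ' ρ X
  refine (congrArg₂ (· ≫ ·) e₁ (congrArg₂ (· ≫ ·) rfl e₂)).trans ?_
  simp only [Category.assoc]

section Main

variable [HasLBase ρ] [HasLBase α] (P : DRing.Cx A)
  (τ : (extCx ρ).obj ((resCx φ).obj P) ⟶ (resCx φ').obj ((extCx α).obj P))

/-- The adjunct of the left-hand side of `cmpG_baseCmp`. -/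
lemma adjunct_lhs :
    (baseAdj ρ).unit.app ((DRing.restrictD φ).obj (DerivedCategory.Q.obj P)) ≫
      (DRing.restrictD ρ).map (cmpG (baseAdj ρ) (baseAdj α) h (DerivedCategory.Q.obj P) ≫
        (DRing.restrictD φ').map ((baseCmp α).app P) ≫
          (resFactors φ').hom.app ((extCx α).obj P)) =
    (resFactors φ).hom.app P ≫
      DerivedCategory.Q.map ((resCx φ).map ((unitCx α).app P) ≫ cCx h ((extCx α).obj P)) ≫
        (resFactors ρ).inv.app ((resCx φ').obj ((extCx α).obj P)) := by
  have h1 := (TrivBC.resComm h).hom.naturality ((baseCmp α).app P)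
  have h2 := baseCmp_fac α P
  have h3 := (resFactors φ).hom.naturality ((unitCx α).app P)
  dsimp only [Functor.comp_obj, Functor.comp_map, Functor.id_obj] at h1 h3
  rw [Functor.map_comp, Functor.map_comp, ← Category.assoc, unit_cmpG, Category.assoc,
    ← Category.assoc ((TrivBC.resComm h).hom.app _), ← h1, Category.assoc,
    ← Functor.map_comp_assoc, h2, resComm_hom_app_Q]
  dsimp only [baseγ]
  have e1 : (DRing.restrictD φ).map ((resFactors α).inv.app ((extCx α).obj P)) ≫
      (DRing.restrictD φ).map ((resFactors α).hom.app ((extCx α).obj P)) = 𝟙 _ := by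
    rw [← Functor.map_comp, Iso.inv_hom_id_app]
    exact (DRing.restrictD φ).map_id _
  have e2 : (DRing.restrictD ρ).map ((resFactors φ').inv.app ((extCx α).obj P)) ≫
      (DRing.restrictD ρ).map ((resFactors φ').hom.app ((extCx α).obj P)) = 𝟙 _ := by
    rw [← Functor.map_comp, Iso.inv_hom_id_app]
    exact (DRing.restrictD ρ).map_id _
  simp only [Functor.map_comp, Category.assoc]
  rw [reassoc_of% e1, e2]
  erw [Category.comp_id]
  rw [reassoc_of% h3]

omit [HasLBase α] in
/-- The adjunct of the right-hand side of `cmpG_baseCmp`. -/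
lemma adjunct_rhs :
    (baseAdj ρ).unit.app ((DRing.restrictD φ).obj (DerivedCategory.Q.obj P)) ≫
      (DRing.restrictD ρ).map ((LBase ρ).map ((resFactors φ).hom.app P) ≫
        (baseCmp ρ).app ((resCx φ).obj P) ≫ DerivedCategory.Q.map τ) =
    (resFactors φ).hom.app P ≫
      DerivedCategory.Q.map ((unitCx ρ).app ((resCx φ).obj P) ≫ (resCx ρ).map τ) ≫
        (resFactors ρ).inv.app ((resCx φ').obj ((extCx α).obj P)) := by
  have h0 := (baseAdj ρ).unit.naturality ((resFactors φ).hom.app P)
  have h2 := baseCmp_fac ρ ((resCx φ).obj P)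
  have h3 := (resFactors ρ).inv.naturality τ
  dsimp only [Functor.comp_obj, Functor.comp_map, Functor.id_obj, Functor.id_map] at h0 h3
  rw [Functor.map_comp, Functor.map_comp, ← Category.assoc, ← h0, Category.assoc,
    ← Category.assoc ((baseAdj ρ).unit.app _), h2]
  dsimp only [baseγ]
  rw [Category.assoc, ← h3, Functor.map_comp, Category.assoc]

/-- `cmpG` at the image of a complex `P`, through the termwise base changes: the square with the
comparison maps `baseCmp` commutes, provided `τ` is compatible with the unit maps. -/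
theorem cmpG_baseCmp
    (hτ : (unitCx ρ).app ((resCx φ).obj P) ≫ (resCx ρ).map τ =
      (resCx φ).map ((unitCx α).app P) ≫ cCx h ((extCx α).obj P)) :
    cmpG (baseAdj ρ) (baseAdj α) h (DerivedCategory.Q.obj P) ≫
        (DRing.restrictD φ').map ((baseCmp α).app P) ≫
          (resFactors φ').hom.app ((extCx α).obj P) =
      (LBase ρ).map ((resFactors φ).hom.app P) ≫
        (baseCmp ρ).app ((resCx φ).obj P) ≫ DerivedCategory.Q.map τ := by
  apply hom_ext_of_unit (baseAdj ρ)
  rw [adjunct_lhs, adjunct_rhs, hτ]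

end Main

end Groth.Agent.Lib.Helper90.TrivBCLib
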