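import Groth.Agent.Lib.Helper90.TrivBC.Tau
import Groth.Agent.Lib.Helper6.PushoutBC

/-!
# The termwise comparison for a pushout square of algebras (helper90)
-/

set_option autoImplicit false
universe u
open CategoryTheory CategoryTheory.Limits
open scoped TensorProduct
attribute [local instance] HasDerivedCategory.standard

namespace Groth.Agent.Lib.Helper90.TrivBCLib

open DTen Groth.Agent.Lib.Helper6.PushoutBC

variable (R A R' A' : Type u) [CommRing R] [CommRing A] [Algebra R A] [CommRing R'] [Algebra R R']
  [CommRing A'] [Algebra A A'] [Algebra R' A'] [Algebra R A'] [IsScalarTower R A A']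
  [IsScalarTower R R' A'] [Algebra.IsPushout R R' A A']
  (h : (algebraMap A A').comp (algebraMap R A) = (algebraMap R' A').comp (algebraMap R R'))

set_option backward.isDefEq.respectTransparency false in
lemma unit_bcCxIso (P : DRing.Cx A) :
    (unitCx (algebraMap R R')).app ((resCx (algebraMap R A)).obj P) ≫
        (resCx (algebraMap R R')).map (bcCxIso R R' A' P).hom =
      (resCx (algebraMap R A)).map ((unitCx (algebraMap A A')).app P) ≫
        cCx h ((extCx (algebraMap A A')).obj P) := by
  ext i : 1
  apply ModuleCat.hom_ext
  apply LinearMap.ext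
  intro m
  exact bcEquiv_one_tmul R R' A' (P.X i) m

end Groth.Agent.Lib.Helper90.TrivBCLib
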