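import Groth.Agent.Lib.Helper90.TrivBC.BcYoneda

/-!
# The unit comparison `𝟙 ⟶ res 𝟙` of complexes and the resolution of `res_α 𝟙` induced by a
resolution of `res_ρ 𝟙` (helper90)
-/

set_option autoImplicit false
set_option linter.style.haveILetI false
set_option linter.unusedSectionVars false
set_option backward.isDefEq.respectTransparency false
universe u
open CategoryTheory CategoryTheory.Limits MonoidalCategory
open scoped TensorProduct ChangeOfRings
attribute [local instance] HasDerivedCategory.standard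

namespace Groth.Agent.Lib.Helper90.TrivBCLib

open _root_.DTen Groth.Agent.Lib.Helper28 Groth.Agent.Lib.Helper26.AdjKProj
  Groth.Agent.Lib.Helper90.DTen.BC Groth.Agent.Lib.Helper90.DTen.Rel

section Unit

variable {B C : Type u} [CommRing B] [CommRing C] (ψ : B →+* C)

/-- The unit comparison `𝟙 ⟶ res 𝟙` of complexes. -/
noncomputable def unitRes : 𝟙_ (DRing.Cx B) ⟶ (resCx ψ).obj (𝟙_ (DRing.Cx C)) :=
  (HomologicalComplex.single (ModuleCat.{u} B) (ComplexShape.up ℤ) 0).map
      (Functor.LaxMonoidal.ε (ModuleCat.restrictScalars.{u} ψ)) ≫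
    ((HomologicalComplex.singleMapHomologicalComplex (ModuleCat.restrictScalars.{u} ψ)
      (ComplexShape.up ℤ) 0).app (𝟙_ (ModuleCat.{u} C))).inv

lemma unitRes_f_zero :
    (unitRes ψ).f 0 ≫ (ModuleCat.restrictScalars.{u} ψ).map (TensCx.unitIso (R := C)).hom =
      (TensCx.unitIso (R := B)).hom ≫ Functor.LaxMonoidal.ε (ModuleCat.restrictScalars.{u} ψ) := by
  dsimp only [unitRes]
  rw [HomologicalComplex.comp_f, HomologicalComplex.single_map_f_self]
  erw [HomologicalComplex.singleMapHomologicalComplex_inv_app_self]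
  simp only [Category.assoc, Iso.inv_hom_id_assoc]
  rw [← Functor.map_comp, Iso.inv_hom_id, CategoryTheory.Functor.map_id, Category.comp_id]

end Unit

section Square

open Groth.Agent.Lib.Helper6.PushoutBC

variable (R A R' A' : Type u) [CommRing R] [CommRing A] [Algebra R A] [CommRing R'] [Algebra R R']
  [CommRing A'] [Algebra A A'] [Algebra R' A'] [Algebra R A'] [IsScalarTower R A A']
  [IsScalarTower R R' A'] [Algebra.IsPushout R R' A A']
  (h : (algebraMap A A').comp (algebraMap R A) = (algebraMap R' A').comp (algebraMap R R'))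

/-- The inverse of the termwise identification `cCx`. -/
noncomputable def cCxInv (X : DRing.Cx A') :
    (resCx (algebraMap R R')).obj ((resCx (algebraMap R' A')).obj X) ⟶
      (resCx (algebraMap R A)).obj ((resCx (algebraMap A A')).obj X) :=
  (Functor.mapHomologicalComplexCompIso
      (Iso.refl (ModuleCat.restrictScalars.{u} (algebraMap R' A') ⋙
        ModuleCat.restrictScalars.{u} (algebraMap R R'))) (ComplexShape.up ℤ)).hom.app X ≫
    (Functor.mapHomologicalComplexCompIso (TrivBC.resCommMod h) (ComplexShape.up ℤ)).inv.app X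

lemma cCxInv_cCx (X : DRing.Cx A') : cCxInv R A R' A' h X ≫ cCx h X = 𝟙 _ := by
  dsimp only [cCxInv, cCx]
  rw [Category.assoc, Iso.inv_hom_id_app_assoc, Iso.hom_inv_id_app]
  rfl

lemma cCx_cCxInv (X : DRing.Cx A') : cCx h X ≫ cCxInv R A R' A' h X = 𝟙 _ := by
  dsimp only [cCxInv, cCx]
  rw [Category.assoc, Iso.inv_hom_id_app_assoc, Iso.hom_inv_id_app]
  rfl

instance isIso_cCx (X : DRing.Cx A') : IsIso (cCx h X) :=
  ⟨cCxInv R A R' A' h X, cCx_cCxInv R A R' A' h X, cCxInv_cCx R A R' A' h X⟩

/-- `res_ρ 𝟙 ⟶ res_φ (res_α 𝟙)`. -/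
noncomputable def vMap : resUnit (algebraMap R R') ⟶
    (resCx (algebraMap R A)).obj (resUnit (algebraMap A A')) :=
  (resCx (algebraMap R R')).map (unitRes (algebraMap R' A')) ≫
    cCxInv R A R' A' h (𝟙_ (DRing.Cx A'))

/-- The degree zero component of `vMap`. -/
lemma vMap_f_zero :
    (vMap R A R' A' h).f 0 =
      (ModuleCat.restrictScalars.{u} (algebraMap R R')).map ((unitRes (algebraMap R' A')).f 0) ≫
        (cCxInv R A R' A' h (𝟙_ (DRing.Cx A'))).f 0 := rfl

/-- `vMap` in degree zero, on elements. -/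
lemma unitIso_vMap_apply (x : ↑((resUnit (algebraMap R R')).X 0)) :
    (TensCx.unitIso (R := A')).hom.hom
        (show ↑((𝟙_ (DRing.Cx A')).X 0) from ((vMap R A R' A' h).f 0).hom x) =
      algebraMap R' A' ((TensCx.unitIso (R := R')).hom.hom
        (show ↑((𝟙_ (DRing.Cx R')).X 0) from x)) := by
  have h1 := unitRes_f_zero (algebraMap R' A')
  have h2 := congrArg (fun f => f.hom (show ↑((𝟙_ (DRing.Cx R')).X 0) from x)) h1
  have h3 : (TensCx.unitIso (R := A')).hom.hom
      (show ↑((𝟙_ (DRing.Cx A')).X 0) from ((vMap R A R' A' h).f 0).hom x) =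
      ((unitRes (algebraMap R' A')).f 0 ≫ (ModuleCat.restrictScalars.{u} (algebraMap R' A')).map
        (TensCx.unitIso (R := A')).hom).hom (show ↑((𝟙_ (DRing.Cx R')).X 0) from x) := rfl
  rw [h3]
  refine h2.trans ?_
  exact ModuleCat.restrictScalars_η (algebraMap R' A') _

/-- `bcEquiv` on a pure tensor. -/
lemma bcEquiv_tmul (X : ModuleCat.{u} A) (r' : R') (w : X) :
    bcEquiv R R' A' X (show (bcR R A R').obj X from (r' ⊗ₜ[R] w)) =
      (show (bcL A R' A').obj X from ((algebraMap R' A' r') ⊗ₜ[A] w)) := by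
  have h1 : (show (bcR R A R').obj X from (r' ⊗ₜ[R] w)) =
      r' • (show (bcR R A R').obj X from ((1 : R') ⊗ₜ[R] w)) := by
    change _ = r' • ((1 : R') ⊗ₜ[R,algebraMap R R']
      (show ↑((ModuleCat.restrictScalars.{u} (algebraMap R A)).obj X) from w) :
      (ModuleCat.extendScalars.{u, u, u} (algebraMap R R')).obj
        ((ModuleCat.restrictScalars.{u} (algebraMap R A)).obj X))
    rw [ModuleCat.ExtendScalars.smul_tmul, mul_one]
  rw [h1, map_smul, bcEquiv_one_tmul]
  change (algebraMap R' A' r') • ((1 : A') ⊗ₜ[A,algebraMap A A'] w :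
      (ModuleCat.extendScalars.{u, u, u} (algebraMap A A')).obj X) = _
  rw [ModuleCat.ExtendScalars.smul_tmul, mul_one]

/-- `(★★')`: the module-level comparison in degree `n`. -/
lemma star_component (W : DRing.Cx A) (n : ℤ) :
    ((vMap R A R' A' h).f 0 ▷ ((resCx (algebraMap R A)).obj W).X n) ≫
      resTen₀app (algebraMap R A) ((resUnit (algebraMap A A')).X 0) (W.X n) ≫
        (ModuleCat.restrictScalars.{u} (algebraMap R A)).map
          (((ModuleCat.restrictScalars.{u} (algebraMap A A')).map
            (TensCx.unitIso (R := A')).hom ▷ W.X n) ≫ nu (algebraMap A A') (W.X n)) ≫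
        (cCx h ((extCx (algebraMap A A')).obj W)).f n =
    ((ModuleCat.restrictScalars.{u} (algebraMap R R')).map (TensCx.unitIso (R := R')).hom ▷
        ((resCx (algebraMap R A)).obj W).X n) ≫
      nu (algebraMap R R') (((resCx (algebraMap R A)).obj W).X n) ≫
        (ModuleCat.restrictScalars.{u} (algebraMap R R')).map ((bcCxIso R R' A' W).hom.f n) := by
  apply ModuleCat.hom_ext
  apply TensorProduct.ext'
  intro x w
  change (nu (algebraMap A A') (W.X n)).hom
      (((TensCx.unitIso (R := A')).hom.hom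
        (show ↑((𝟙_ (DRing.Cx A')).X 0) from ((vMap R A R' A' h).f 0).hom x)) ⊗ₜ[A] w) =
    bcEquiv R R' A' (W.X n) ((nu (algebraMap R R') (((resCx (algebraMap R A)).obj W).X n)).hom
      (((TensCx.unitIso (R := R')).hom.hom (show ↑((𝟙_ (DRing.Cx R')).X 0) from x)) ⊗ₜ[R] w))
  rw [nu_apply, nu_apply, unitIso_vMap_apply]
  exact (bcEquiv_tmul R A R' A' (W.X n) _ w).symm

/-- `(★★')` on complexes. -/
lemma star_two (W : DRing.Cx A) :
    (vMap R A R' A' h ▷ (resCx (algebraMap R A)).obj W) ≫
      resTenCx (algebraMap R A) (resUnit (algebraMap A A')) W ≫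
        (resCx (algebraMap R A)).map (sigma (algebraMap A A') W) ≫
          cCx h ((extCx (algebraMap A A')).obj W) =
    sigma (algebraMap R R') ((resCx (algebraMap R A)).obj W) ≫
      (resCx (algebraMap R R')).map (bcCxIso R R' A' W).hom := by
  ext n : 1
  apply TensCx.hom_ext
  intro p q' hpq
  by_cases hp : p = 0
  · subst hp
    obtain rfl : q' = n := by omega
    have h1 : TensCx.ι (resUnit (algebraMap R R')) ((resCx (algebraMap R A)).obj W) 0 q' q' hpq ≫
        (vMap R A R' A' h ▷ (resCx (algebraMap R A)).obj W).f q' =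
        ((vMap R A R' A' h).f 0 ▷ ((resCx (algebraMap R A)).obj W).X q') ≫
          TensCx.ι ((resCx (algebraMap R A)).obj (resUnit (algebraMap A A')))
            ((resCx (algebraMap R A)).obj W) 0 q' q' hpq :=
      TensCx.isDiag_whiskerRight (vMap R A R' A' h) ((resCx (algebraMap R A)).obj W) q' 0 q' hpq
    have h2 := ι_resTenCx (algebraMap R A) (resUnit (algebraMap A A')) W 0 q' q' hpq
    have h3 := ι_sigma (algebraMap A A') W q'
    have h4 := ι_sigma (algebraMap R R') ((resCx (algebraMap R A)).obj W) q'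
    have e0 : ((resCx (algebraMap R A)).map (sigma (algebraMap A A') W)).f q' =
        (ModuleCat.restrictScalars.{u} (algebraMap R A)).map
          ((sigma (algebraMap A A') W).f q') := rfl
    have e1 : ((resCx (algebraMap R R')).map (bcCxIso R R' A' W).hom).f q' =
        (ModuleCat.restrictScalars.{u} (algebraMap R R')).map
          ((bcCxIso R R' A' W).hom.f q') := rfl
    have hpq' : hpq = zero_add q' := rfl
    subst hpq'
    simp only [HomologicalComplex.comp_f]
    rw [reassoc_of% h1]
    erw [reassoc_of% h2]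
    rw [e0, ← Functor.map_comp_assoc]
    erw [h3]
    rw [reassoc_of% h4, e1]
    exact star_component R A R' A' h W q'
  · exact (Functor.map_isZero (tensorRight (((resCx (algebraMap R A)).obj W).X q'))
      (isZero_resUnit_X (algebraMap R R') p hp)).eq_of_src _ _

variable (E : DRing.Cx R) (q : E ⟶ resUnit (algebraMap R R'))

/-- The induced map `ext_φ E ⟶ res_α 𝟙`. -/
noncomputable def qTilde : (extCx (algebraMap R A)).obj E ⟶ resUnit (algebraMap A A') :=
  adjunctInv (mAdj (algebraMap R A)) (q ≫ vMap R A R' A' h)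

/-- `(★)`: the comparison of the two `u`-maps. -/
theorem star_one (W : DRing.Cx A) :
    pf (algebraMap R A) E W ≫
      (resCx (algebraMap R A)).map
        (uMap (algebraMap A A') ((extCx (algebraMap R A)).obj E) (qTilde R A R' A' h E q) W) ≫
        cCx h ((extCx (algebraMap A A')).obj W) =
    uMap (algebraMap R R') E q ((resCx (algebraMap R A)).obj W) ≫
      (resCx (algebraMap R R')).map (bcCxIso R R' A' W).hom := by
  have h0 : (unitCx (algebraMap R A)).app E ≫
      (resCx (algebraMap R A)).map (qTilde R A R' A' h E q) = q ≫ vMap R A R' A' h := by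
    have := adjunct_adjunctInv (mAdj (algebraMap R A)) (q ≫ vMap R A R' A' h)
    dsimp only [adjunct] at this
    rw [← Groth.Agent.Lib.Helper26.DTenSplit.unitCx_app_eq] at this
    exact this
  have h1 := resTenCx_whiskerRight (algebraMap R A) (qTilde R A R' A' h E q) W
  rw [uMap_eq, uMap_eq, Functor.map_comp]
  dsimp only [pf]
  simp only [Category.assoc]
  rw [← reassoc_of% h1, ← comp_whiskerRight_assoc, h0, comp_whiskerRight_assoc,
    star_two R A R' A' h W]

end Square

end Groth.Agent.Lib.Helper90.TrivBCLib
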